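import Cfsg.Agent.H267.Pw.SpFix

/-!
# `Sp_6(3)`: a decomposition, and the module of dimension 14 for all elements (helper267; S2465, `F_4(3)`)
-/

set_option autoImplicit false

namespace Cfsg.Agent.H267.SpFx

open Matrix Cfsg.Agent.H700.F43

theorem rel_ng : Rel ng (-1) := by
  have h : ∀ x : V6, ng.1 *ᵥ x = -x := fun x => by
    show (-1 : Matrix (Fin 3 ⊕ Fin 3) (Fin 3 ⊕ Fin 3) F3) *ᵥ x = -x
    rw [Matrix.neg_mulVec, Matrix.one_mulVec]
  intro x y z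
  rw [h, h, h]
  funext k
  fin_cases k
  all_goals
    simp [ww, cX, cY, d3]
    try ring

theorem ng_mul_self : ng * ng = 1 := by
  apply Subtype.ext
  show (-1 * -1 : Matrix (Fin 3 ⊕ Fin 3) (Fin 3 ⊕ Fin 3) F3) = 1
  rw [neg_mul_neg, Matrix.one_mul]

/-- elements with upper left block of determinant 1 -/
theorem tri_sp {l : Sp} {a b c d : Mt} (hl : l.1 = fromBlocks a b c d) (hd : a.det = 1) :
    ∃ (S T : Mt) (hS : Sᵀ = S) (hT : Tᵀ = T), l = vv S hS * dd ⟨a, hd⟩ * uu T hT := by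
  have hsp : Pw.IsSp (fromBlocks a b c d) := by
    rw [← hl]
    exact isSp_of
  obtain ⟨S, T, hS, hT, hb, hc, hdd⟩ := Pw.tri hsp hd
  refine ⟨S, T, hS, hT, ?_⟩
  apply Subtype.ext
  have h1 : (dd ⟨a, hd⟩).1 = fromBlocks a 0 0 (a⁻¹)ᵀ := dd_coe (c := ⟨a, hd⟩)
  show l.1 = fromBlocks 1 0 S 1 * (dd ⟨a, hd⟩).1 * fromBlocks 1 T 0 1
  rw [hl, h1, hb, hc, hdd, fromBlocks_multiply, fromBlocks_multiply]
  simp only [Matrix.one_mul, Matrix.mul_one, Matrix.mul_zero, Matrix.zero_mul, add_zero, zero_add]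
  rw [add_comm]

/-- **Decomposition.** -/
theorem sp_dec (l : Sp) : ∃ (z : Sp) (P S T : Mt) (hP : Pᵀ = P) (hS : Sᵀ = S) (hT : Tᵀ = T)
    (c : SpecialLinearGroup (Fin 3) F3), (z = 1 ∨ z = ng) ∧ l = z * uu P hP * vv S hS * dd c * uu T hT := by
  have key : ∀ (l : Sp) (a b c d P : Mt) (hP : Pᵀ = P), l.1 = fromBlocks a b c d → (a + P * c).det = 1 →
      ∃ (P S T : Mt) (hP : Pᵀ = P) (hS : Sᵀ = S) (hT : Tᵀ = T) (c : SpecialLinearGroup (Fin 3) F3),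
        l = uu P hP * vv S hS * dd c * uu T hT := by
    intro l a b c d P hP hl hdet
    have h1 : (uu P hP * l).1 = fromBlocks (a + P * c) (b + P * d) c d := by
      show fromBlocks 1 P 0 1 * l.1 = _
      rw [hl, fromBlocks_multiply]
      simp only [Matrix.one_mul, Matrix.zero_mul, zero_add]
    obtain ⟨S, T, hS, hT, he⟩ := tri_sp h1 hdet
    refine ⟨-P, S, T, by rw [transpose_neg, hP], hS, hT, ⟨a + P * c, hdet⟩, ?_⟩
    rw [← uu_inv hP, mul_assoc, mul_assoc, ← mul_assoc (vv S hS), ← he, inv_mul_cancel_left]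
  obtain ⟨a, b, c, d, hl⟩ : ∃ a b c d : Mt, l.1 = fromBlocks a b c d :=
    ⟨_, _, _, _, (fromBlocks_toBlocks l.1).symm⟩
  have hsp := Pw.isSp_iff.1 (by rw [← hl]; exact isSp_of : Pw.IsSp (fromBlocks a b c d))
  obtain ⟨P, hP, hdet⟩ := Pw.exists_inv c _ a le_rfl hsp.1 (by
    intro x hax hcx
    have h3 : (aᵀ * d - cᵀ * b)ᵀ *ᵥ x = x := by rw [hsp.2.1, transpose_one, one_mulVec]
    rw [← h3, transpose_sub, transpose_mul, transpose_mul, transpose_transpose, transpose_transpose, sub_mulVec,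
      ← mulVec_mulVec, ← mulVec_mulVec, hax, hcx, mulVec_zero, mulVec_zero, sub_zero])
  by_cases hd1 : (a + P * c).det = 1
  · obtain ⟨P, S, T, hP, hS, hT, k, he⟩ := key l a b c d P hP hl hd1
    exact ⟨1, P, S, T, hP, hS, hT, k, Or.inl rfl, by rw [he, one_mul]⟩
  · have hd2 := Pw.det_ne_cases _ hdet hd1
    have hl' : (ng * l).1 = fromBlocks (-a) (-b) (-c) (-d) := by
      show -1 * l.1 = _
      rw [hl, Matrix.neg_mul, Matrix.one_mul, fromBlocks_neg]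
    obtain ⟨P, S, T, hP, hS, hT, k, he⟩ := key (ng * l) (-a) (-b) (-c) (-d) P hP hl' (by
      rw [Matrix.mul_neg, ← neg_add, Matrix.det_neg, hd2]
      decide)
    refine ⟨ng, P, S, T, hP, hS, hT, k, Or.inr rfl, ?_⟩
    calc l = ng * (ng * l) := by rw [← mul_assoc, ng_mul_self, one_mul]
      _ = _ := by rw [he]; simp only [mul_assoc]

/-- **Every element acts on the module of dimension 14.** -/
theorem exists_rel (A : Sp) : ∃ X : V14 →ₗ[F3] V14, Rel A X := by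
  obtain ⟨z, P, S, T, hP, hS, hT, c, hz, rfl⟩ := sp_dec A
  have h1 : ∃ X : V14 →ₗ[F3] V14, Rel z X := by
    rcases hz with rfl | rfl
    · exact ⟨1, Rel.one⟩
    · exact ⟨-1, rel_ng⟩
  obtain ⟨X, hX⟩ := h1
  exact ⟨_, (((hX.mul (rel_uu hP)).mul (rel_vv hS)).mul (rel_dd c)).mul (rel_uu hT)⟩

/-! ### Dimensions of fixed spaces -/

theorem finrank_le_two {M : V14 →ₗ[F3] V14} {v w : V14} (h : ∀ φ, M φ = φ → ∃ p q : F3, φ = p • v + q • w) :
    Module.finrank F3 (LinearMap.ker (M - 1)) ≤ 2 := by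
  classical
  have h1 : LinearMap.ker (M - 1) ≤ Submodule.span F3 ((({v, w} : Finset V14)) : Set V14) := by
    intro φ hφ
    obtain ⟨p, q, he⟩ := h φ (by
      rw [LinearMap.mem_ker, LinearMap.sub_apply, sub_eq_zero] at hφ
      exact hφ)
    rw [Finset.coe_insert, Finset.coe_singleton]
    exact Submodule.mem_span_pair.2 ⟨p, q, he.symm⟩
  exact (Submodule.finrank_mono h1).trans ((finrank_span_finset_le_card _).trans Finset.card_le_two)

theorem finrank_conj {B : Sp} {c : SpecialLinearGroup (Fin 3) F3} (hF : Pw.Fpf c.1) {N N' M : V14 →ₗ[F3] V14}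
    (hN : Rel B N) (hN' : Rel B⁻¹ N') (hM : Rel (B * dd c * B⁻¹) M) : Module.finrank F3 (LinearMap.ker (M - 1)) ≤ 2 := by
  refine finrank_le_two (v := N (pk 1 0 0 0)) (w := N (pk 0 0 0 1)) fun φ hφ => ?_
  obtain ⟨g1, k1⟩ := conj_fix hN hN' (rel_dd c) hM hφ
  have e1 := dL_fix hF (congrArg Subtype.val (mul_inv_cancel c)) g1
  generalize N' φ = ψ at e1 k1
  generalize ψ 0 = p at e1
  generalize ψ 13 = q at e1
  refine ⟨p, q, ?_⟩
  rw [k1, e1, ← map_smul, ← map_smul, ← map_add, ← pk_smul, ← pk_smul, ← pk_add, smul_zero, smul_zero, add_zero, mul_one,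
    mul_zero, mul_zero, mul_one, add_zero, zero_add]

/-- **Frame, packed**, with the dimensions of the fixed spaces of the two factors. -/
theorem frame13' {l : Sp} (h1 : l ≠ 1) (h2 : l ≠ ng) :
    ∃ g A₁ A₂ : Sp, g * l * g⁻¹ = A₁ * A₂ ∧ A₁ ^ 13 = 1 ∧ A₂ ^ 13 = 1 ∧ A₁ ≠ 1 ∧ A₂ ≠ 1 ∧
      (∀ (M₁ M₂ : V14 →ₗ[F3] V14), Rel A₁ M₁ → Rel A₂ M₂ → ∀ φ : V14, M₁ φ = φ → M₂ φ = φ → φ = 0) ∧
      (∀ M₁ : V14 →ₗ[F3] V14, Rel A₁ M₁ → Module.finrank F3 (LinearMap.ker (M₁ - 1)) ≤ 2) ∧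
      (∀ M₂ : V14 →ₗ[F3] V14, Rel A₂ M₂ → Module.finrank F3 (LinearMap.ker (M₂ - 1)) ≤ 2) := by
  obtain ⟨g, c₁, c₂, X, Y, hX, hY, f1, f2, hX0, hY0, hXY, he⟩ := frame h1 h2
  exact ⟨g, _, _, he, conj_pow' _ _ _ (dd_pow13 f1), conj_pow' _ _ _ (dd_pow13 f2), conj_ne _ _ (dd_ne f1),
    conj_ne _ _ (dd_ne f2), fun M₁ M₂ r1 r2 φ k1 k2 => no_common hX hY f1 f2 hX0 hY0 hXY r1 r2 k1 k2,
    fun M₁ r1 => finrank_conj f1 (rel_vv hX) (by rw [vv_inv hX]; exact rel_vv _) r1,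
    fun M₂ r2 => finrank_conj f2 (rel_uu hY) (by rw [uu_inv hY]; exact rel_uu _) r2⟩

end Cfsg.Agent.H267.SpFx
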