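import Mathlib

/-!
# Pairs of elements of order 13 in `SL_3(3)` (helper267; S2465, `F_4(3)`, piece F-E3)

Kernel check: for every block companion matrix `A` of determinant 1 over the field with three elements there are two
factorizations `A = c₁ c₂ = c₁' c₂'` into elements of order 13 such that no pair `(S, T)` of symmetric matrices is bad for both.
-/

set_option autoImplicit false
set_option maxRecDepth 100000

namespace Cfsg.Agent.H267.Pw

/-- 3 × 3 matrices with entries in `ℕ` (modulo 3) -/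
structure M9 where
  (a b c d e f g h i : ℕ)

namespace M9

/-- product modulo 3 -/
def mul (x y : M9) : M9 :=
  ⟨(x.a*y.a + x.b*y.d + x.c*y.g) % 3, (x.a*y.b + x.b*y.e + x.c*y.h) % 3, (x.a*y.c + x.b*y.f + x.c*y.i) % 3,
   (x.d*y.a + x.e*y.d + x.f*y.g) % 3, (x.d*y.b + x.e*y.e + x.f*y.h) % 3, (x.d*y.c + x.e*y.f + x.f*y.i) % 3,
   (x.g*y.a + x.h*y.d + x.i*y.g) % 3, (x.g*y.b + x.h*y.e + x.i*y.h) % 3, (x.g*y.c + x.h*y.f + x.i*y.i) % 3⟩

/-- transpose -/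
def tr (x : M9) : M9 := ⟨x.a, x.d, x.g, x.b, x.e, x.h, x.c, x.f, x.i⟩

/-- difference modulo 3 -/
def sub (x y : M9) : M9 :=
  ⟨(x.a + 2*y.a) % 3, (x.b + 2*y.b) % 3, (x.c + 2*y.c) % 3, (x.d + 2*y.d) % 3, (x.e + 2*y.e) % 3, (x.f + 2*y.f) % 3,
   (x.g + 2*y.g) % 3, (x.h + 2*y.h) % 3, (x.i + 2*y.i) % 3⟩

/-- determinant modulo 3 -/
def det (x : M9) : ℕ :=
  (x.a*(x.e*x.i + 2*(x.f*x.h)) + x.b*(x.f*x.g + 2*(x.d*x.i)) + x.c*(x.d*x.h + 2*(x.e*x.g))) % 3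

/-- inverse modulo 3 (adjugate times the determinant) -/
def inv (x : M9) : M9 :=
  let t := x.det
  ⟨(t*(x.e*x.i + 2*(x.f*x.h))) % 3, (t*(x.c*x.h + 2*(x.b*x.i))) % 3, (t*(x.b*x.f + 2*(x.c*x.e))) % 3,
   (t*(x.f*x.g + 2*(x.d*x.i))) % 3, (t*(x.a*x.i + 2*(x.c*x.g))) % 3, (t*(x.c*x.d + 2*(x.a*x.f))) % 3,
   (t*(x.d*x.h + 2*(x.e*x.g))) % 3, (t*(x.b*x.g + 2*(x.a*x.h))) % 3, (t*(x.a*x.e + 2*(x.b*x.d))) % 3⟩

/-- equality modulo 3 -/
def eqb (x y : M9) : Bool :=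
  x.a % 3 == y.a % 3 && x.b % 3 == y.b % 3 && x.c % 3 == y.c % 3 && x.d % 3 == y.d % 3 && x.e % 3 == y.e % 3 &&
    x.f % 3 == y.f % 3 && x.g % 3 == y.g % 3 && x.h % 3 == y.h % 3 && x.i % 3 == y.i % 3

/-- the symmetric matrix with six given entries -/
def sy (a b c d e f : ℕ) : M9 := ⟨a, b, c, b, d, e, c, e, f⟩

/-- `X - kᵀ X k` -/
def fS (k X : M9) : M9 := X.sub ((k.tr.mul X).mul k)

/-- `k Y kᵀ - Y` -/
def gT (k Y : M9) : M9 := ((k.mul Y).mul k.tr).sub Y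

/-- linear form -/
def lf (l : List ℕ) (a b c d e f : ℕ) : ℕ :=
  (l.getD 0 0 * a + l.getD 1 0 * b + l.getD 2 0 * c + l.getD 3 0 * d + l.getD 4 0 * e + l.getD 5 0 * f) % 3

/-- linear map on symmetric matrices -/
def lin (L : List (List ℕ)) (a b c d e f : ℕ) : M9 :=
  sy (lf (L.getD 0 []) a b c d e f) (lf (L.getD 1 []) a b c d e f) (lf (L.getD 2 []) a b c d e f)
    (lf (L.getD 3 []) a b c d e f) (lf (L.getD 4 []) a b c d e f) (lf (L.getD 5 []) a b c d e f)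

/-- the identity matrix -/
def one : M9 := ⟨1, 0, 0, 0, 1, 0, 0, 0, 1⟩

/-- the block companion matrices -/
def bl (b0 b1 : Bool) (c0 c1 c2 : ℕ) : M9 :=
  match b0, b1 with
  | false, false => ⟨0, 0, c0, 1, 0, c1, 0, 1, c2⟩
  | false, true => ⟨0, c0, 0, 1, c1, 0, 0, 0, c2⟩
  | true, false => ⟨c0, 0, 0, 0, 0, c1, 0, 1, c2⟩
  | true, true => ⟨c0, 0, 0, 0, c1, 0, 0, 0, c2⟩

/-- scalar matrix -/
def scl (t : ℕ) : M9 := ⟨t, 0, 0, 0, t, 0, 0, 0, t⟩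

/-- `c³ = t c² + s c + 1` and `k³ - t k² - s k - 1` is invertible -/
def ckP (c k : M9) (t s : ℕ) : Bool :=
  (((c.mul c).mul c).sub ((c.mul c).mul (scl t))).eqb ((c.mul (scl s)).sub (scl 2)) &&
    (((((k.mul k).mul k).sub ((k.mul k).mul (scl t))).sub (k.mul (scl s))).sub (scl 1)).det != 0

/-- order 13, inverse, no fixed points on forms -/
def ok13 (c k : M9) : Bool :=
  let c2 := c.mul c
  let c3 := c2.mul c
  let c6 := c3.mul c3
  ((c6.mul c6).mul c).eqb one && (c.mul k).eqb one && c.det == 1 && !(c.eqb one) &&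
    (List.range 3).any fun t => (List.range 3).any fun s => ckP c k t s

/-- the check for one symmetric matrix -/
def ckX (k₁ k₂ l₁ l₂ : M9) (L : List (List ℕ)) (a b c d e f : ℕ) : Bool :=
  (sy a b c d e f).det == 0 ||
    (let X' := lin L a b c d e f
     (fS k₁ (sy a b c d e f)).eqb (fS l₁ X') &&
      (X'.det == 0 || !((gT k₂ (sy a b c d e f).inv).eqb (gT l₂ X'.inv))))

/-- the check for all symmetric matrices -/
def ckA (k₁ k₂ l₁ l₂ : M9) (L : List (List ℕ)) : Bool :=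
  (List.range 3).all fun a => (List.range 3).all fun b => (List.range 3).all fun c => (List.range 3).all fun d =>
    (List.range 3).all fun e => (List.range 3).all fun f => ckX k₁ k₂ l₁ l₂ L a b c d e f

end M9

open M9

/-- data of one matrix -/
structure Dt where
  (c₁ c₂ k₁ k₂ d₁ d₂ l₁ l₂ : M9)
  L : List (List ℕ)

/-- the check for one matrix -/
def Dt.ck (A : M9) (x : Dt) : Bool :=
  (x.c₁.mul x.c₂).eqb A && (x.d₁.mul x.d₂).eqb A && ok13 x.c₁ x.k₁ && ok13 x.c₂ x.k₂ && ok13 x.d₁ x.l₁ && ok13 x.d₂ x.l₂ &&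
    ckA x.k₁ x.k₂ x.l₁ x.l₂ x.L

end Cfsg.Agent.H267.Pw
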