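import Cfsg.Agent.H267.Pw.SpFrame
import Cfsg.Agent.H700.F43.Mod

/-!
# `Sp_6(3)` on the module of dimension 14: no common fixed vectors (helper267; S2465, `F_4(3)`, piece F-E3)

`frame` : for `l ∈ Sp_6(3)`, `l ≠ ±1`: `g l g⁻¹ = (v(X) d(c₁) v(X)⁻¹) (u(Y) d(c₂) u(Y)⁻¹)` with `c₁`, `c₂` of order 13;
`no_common` : the two factors have no common fixed vector in the module of dimension 14;
`frame13` : both together.
-/

set_option autoImplicit false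

namespace Cfsg.Agent.H267.SpFx

open Matrix Cfsg.Agent.H700.F43

/-- 3 × 3 matrices -/
abbrev Mt := Matrix (Fin 3) (Fin 3) F3

theorem three_eq : ∀ a : F3, -(a + a) = a := by decide

/-! ### The action of `u(T)` -/

/-- the action of `u(T)`, `T = [[a, b, c], [b, d, e], [c, e, f]]` -/
def uF (a b c d e f : F3) (φ : V14) : V14 := ![
  φ 0,
  φ 1 + a * φ 0,
  φ 2 + d * φ 0,
  φ 3 + f * φ 0,
  φ 4 - 2 * e * φ 0,
  φ 5 - 2 * c * φ 0,
  φ 6 - 2 * b * φ 0,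
  φ 7 + φ 2 * f + φ 3 * d + φ 4 * e + φ 0 * (d * f - e * e),
  φ 8 + φ 1 * f + φ 3 * a + φ 5 * c + φ 0 * (a * f - c * c),
  φ 9 + φ 1 * d + φ 2 * a + φ 6 * b + φ 0 * (a * d - b * b),
  φ 10 + φ 6 * c + φ 5 * b + 2 * φ 1 * e - φ 4 * a - 2 * φ 0 * (b * c - a * e),
  φ 11 + φ 6 * e + φ 4 * b - φ 5 * d + 2 * φ 2 * c - 2 * φ 0 * (b * e - c * d),
  φ 12 + φ 5 * e + φ 4 * c - φ 6 * f + 2 * φ 3 * b - 2 * φ 0 * (c * e - b * f),
  φ 13 + (φ 7 * a + φ 8 * d + φ 9 * f - φ 10 * e - φ 11 * c - φ 12 * b)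
    + (φ 1 * (d * f - e * e) + φ 2 * (a * f - c * c) + φ 3 * (a * d - b * b)
      - φ 4 * (b * c - a * e) - φ 5 * (b * e - c * d) - φ 6 * (c * e - b * f))
    + φ 0 * (a * (d * f - e * e) - b * (b * f - c * e) + c * (b * e - c * d))]

/-- the vector moved by `u(T)` -/
def mv (a b c d e f : F3) (x : V6) : V6 := Sum.elim
  ![x (Sum.inl 0) + a * x (Sum.inr 0) + b * x (Sum.inr 1) + c * x (Sum.inr 2),
    x (Sum.inl 1) + b * x (Sum.inr 0) + d * x (Sum.inr 1) + e * x (Sum.inr 2),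
    x (Sum.inl 2) + c * x (Sum.inr 0) + e * x (Sum.inr 1) + f * x (Sum.inr 2)] fun i => x (Sum.inr i)

theorem uF_ww (a b c d e f : F3) (x y z : V6) :
    uF a b c d e f (ww x y z) = ww (mv a b c d e f x) (mv a b c d e f y) (mv a b c d e f z) := by
  have h1 : ∀ x : V6, mv a b c d e f x (Sum.inl 0) = x (Sum.inl 0) + a * x (Sum.inr 0) + b * x (Sum.inr 1) + c * x (Sum.inr 2) :=
    fun _ => rfl
  have h2 : ∀ x : V6, mv a b c d e f x (Sum.inl 1) = x (Sum.inl 1) + b * x (Sum.inr 0) + d * x (Sum.inr 1) + e * x (Sum.inr 2) :=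
    fun _ => rfl
  have h3 : ∀ x : V6, mv a b c d e f x (Sum.inl 2) = x (Sum.inl 2) + c * x (Sum.inr 0) + e * x (Sum.inr 1) + f * x (Sum.inr 2) :=
    fun _ => rfl
  have h4 : ∀ (x : V6) (i : Fin 3), mv a b c d e f x (Sum.inr i) = x (Sum.inr i) := fun _ _ => rfl
  have e1 : (0 : Fin 3) + 1 = 1 := rfl
  have e2 : (0 : Fin 3) + 2 = 2 := rfl
  have e3 : (1 : Fin 3) + 1 = 2 := rfl
  have e4 : (1 : Fin 3) + 2 = 0 := rfl
  have e5 : (2 : Fin 3) + 1 = 0 := rfl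
  have e6 : (2 : Fin 3) + 2 = 1 := rfl
  funext k
  fin_cases k
  all_goals
    simp only [uF, ww, cX, cY, d3, e1, e2, e3, e4, e5, e6, h1, h2, h3, h4]
    simp
    try ring

/-- `u(T)` as a linear map -/
def uL (T : Mt) : V14 →ₗ[F3] V14 where
  toFun := uF (T 0 0) (T 0 1) (T 0 2) (T 1 1) (T 1 2) (T 2 2)
  map_add' x y := by
    funext k
    fin_cases k
    all_goals
      simp only [uF, Pi.add_apply]
      simp
      try ring
  map_smul' r x := by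
    funext k
    fin_cases k
    all_goals
      simp only [uF, Pi.smul_apply, smul_eq_mul, RingHom.id_apply]
      simp
      try ring

/-- the swap on the natural module -/
def sw (x : V6) : V6 := fun i => x i.swap

/-- the swap -/
def swL : V14 →ₗ[F3] V14 where
  toFun φ := ![φ 13, φ 7, φ 8, φ 9, φ 10, φ 11, φ 12, φ 1, φ 2, φ 3, φ 4, φ 5, φ 6, φ 0]
  map_add' x y := by
    funext k
    fin_cases k <;> rfl
  map_smul' r x := by
    funext k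
    fin_cases k <;> rfl

theorem swL_ww (x y z : V6) : swL (ww x y z) = ww (sw x) (sw y) (sw z) := by
  funext k
  fin_cases k <;> rfl

/-- `v(S)` as a linear map -/
def vL (S : Mt) : V14 →ₗ[F3] V14 := swL * uL S * swL

theorem mv_eq {T : Mt} (hT : Tᵀ = T) (x : V6) :
    (fromBlocks 1 T 0 1 : Matrix (Fin 3 ⊕ Fin 3) (Fin 3 ⊕ Fin 3) F3) *ᵥ x =
      mv (T 0 0) (T 0 1) (T 0 2) (T 1 1) (T 1 2) (T 2 2) x := by
  have hs : ∀ i j, T i j = T j i := fun i j => by conv_lhs => rw [← hT, transpose_apply]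
  rw [fromBlocks_mulVec]
  funext k
  rcases k with k | k
  · fin_cases k
    all_goals
      simp [mv, Matrix.mulVec, dotProduct, Fin.sum_univ_three, hs 1 0, hs 2 0, hs 2 1]
      try ring
  · simp [mv]

theorem rel_uu {T : Mt} (hT : Tᵀ = T) : Rel (uu T hT) (uL T) := by
  intro x y z
  show uF _ _ _ _ _ _ (ww x y z) = ww ((fromBlocks 1 T 0 1 : Matrix (Fin 3 ⊕ Fin 3) (Fin 3 ⊕ Fin 3) F3) *ᵥ x)
    ((fromBlocks 1 T 0 1 : Matrix (Fin 3 ⊕ Fin 3) (Fin 3 ⊕ Fin 3) F3) *ᵥ y)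
    ((fromBlocks 1 T 0 1 : Matrix (Fin 3 ⊕ Fin 3) (Fin 3 ⊕ Fin 3) F3) *ᵥ z)
  rw [uF_ww, mv_eq hT, mv_eq hT, mv_eq hT]

theorem sw_mv {S : Mt} (x : V6) :
    (fromBlocks 1 0 S 1 : Matrix (Fin 3 ⊕ Fin 3) (Fin 3 ⊕ Fin 3) F3) *ᵥ x =
      sw ((fromBlocks 1 S 0 1 : Matrix (Fin 3 ⊕ Fin 3) (Fin 3 ⊕ Fin 3) F3) *ᵥ sw x) := by
  rw [fromBlocks_mulVec, fromBlocks_mulVec]
  funext k
  rcases k with k | k
  · simp [sw]
  · simp [sw]
    rw [add_comm]
    rfl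

theorem rel_vv {S : Mt} (hS : Sᵀ = S) : Rel (vv S hS) (vL S) := by
  intro x y z
  show swL (uL S (swL (ww x y z))) = ww ((fromBlocks 1 0 S 1 : Matrix (Fin 3 ⊕ Fin 3) (Fin 3 ⊕ Fin 3) F3) *ᵥ x)
    ((fromBlocks 1 0 S 1 : Matrix (Fin 3 ⊕ Fin 3) (Fin 3 ⊕ Fin 3) F3) *ᵥ y)
    ((fromBlocks 1 0 S 1 : Matrix (Fin 3 ⊕ Fin 3) (Fin 3 ⊕ Fin 3) F3) *ᵥ z)
  rw [swL_ww, rel_uu hS, swL_ww, sw_mv, sw_mv, sw_mv]
  rfl

/-! ### The action of `d(c)` -/

/-- the first symmetric matrix -/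
def mX (φ : V14) : Mt := !![φ 1, φ 6, φ 5; φ 6, φ 2, φ 4; φ 5, φ 4, φ 3]

/-- the second symmetric matrix -/
def mY (φ : V14) : Mt := !![φ 7, φ 12, φ 11; φ 12, φ 8, φ 10; φ 11, φ 10, φ 9]

/-- a vector from its components -/
def pk (p : F3) (X Y : Mt) (q : F3) : V14 :=
  ![p, X 0 0, X 1 1, X 2 2, X 1 2, X 0 2, X 0 1, Y 0 0, Y 1 1, Y 2 2, Y 1 2, Y 0 2, Y 0 1, q]

theorem pk_eta (φ : V14) : pk (φ 0) (mX φ) (mY φ) (φ 13) = φ := by
  funext k
  fin_cases k <;> rfl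

/-- cross product -/
def cr (u v : Fin 3 → F3) : Fin 3 → F3 := fun j => u (j + 1) * v (j + 2) - u (j + 2) * v (j + 1)

/-- first components -/
def xe (x : V6) : Fin 3 → F3 := fun i => x (Sum.inl i)

/-- second components -/
def xf (x : V6) : Fin 3 → F3 := fun i => x (Sum.inr i)

/-- the tensor -/
def tn (u v w u' v' w' : Fin 3 → F3) : Mt := vecMulVec u (cr v' w') + vecMulVec v (cr w' u') + vecMulVec w (cr u' v')

theorem mX_ww (x y z : V6) :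
    mX (ww x y z) = -(tn (xe x) (xe y) (xe z) (xf x) (xf y) (xf z) + (tn (xe x) (xe y) (xe z) (xf x) (xf y) (xf z))ᵀ) := by
  have h : ∀ i j, cX x y z i j = tn (xe x) (xe y) (xe z) (xf x) (xf y) (xf z) i j := by
    intro i j
    simp only [cX, d3, tn, xe, xf, cr, Matrix.add_apply, vecMulVec_apply]
    ring
  ext i j
  fin_cases i <;> fin_cases j
  all_goals
    simp only [mX, ww, h]
    simp [-neg_add_rev, three_eq]
    try rw [add_comm]

theorem mY_ww (x y z : V6) :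
    mY (ww x y z) = -(tn (xf x) (xf y) (xf z) (xe x) (xe y) (xe z) + (tn (xf x) (xf y) (xf z) (xe x) (xe y) (xe z))ᵀ) := by
  have h : ∀ i j, cY x y z i j = tn (xf x) (xf y) (xf z) (xe x) (xe y) (xe z) i j := by
    intro i j
    simp only [cY, d3, tn, xe, xf, cr, Matrix.add_apply, vecMulVec_apply]
    ring
  ext i j
  fin_cases i <;> fin_cases j
  all_goals
    simp only [mY, ww, h]
    simp [-neg_add_rev, three_eq]
    try rw [add_comm]

theorem cr_add (u v w : Fin 3 → F3) : cr u (v + w) = cr u v + cr u w := by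
  funext j
  simp only [cr, Pi.add_apply]
  ring

/-- cross products under matrices of determinant 1 -/
theorem cr_mulVec {c k : Mt} (hc : c.det = 1) (hck : c * k = 1) (u v : Fin 3 → F3) :
    cr (kᵀ *ᵥ u) (kᵀ *ᵥ v) = c *ᵥ cr u v := by
  have hk : k = c.adjugate := by
    have h1 : c.adjugate * c = 1 := by rw [Matrix.adjugate_mul, hc, one_smul]
    calc k = c.adjugate * c * k := by rw [h1, Matrix.one_mul]
      _ = c.adjugate := by rw [Matrix.mul_assoc, hck, Matrix.mul_one]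
  have h2 : ∀ j, cr (c.adjugateᵀ *ᵥ u) (c.adjugateᵀ *ᵥ v) j = c.det * (c *ᵥ cr u v) j := by
    intro j
    rw [Matrix.adjugate_fin_three, Matrix.det_fin_three]
    fin_cases j
    all_goals
      simp [cr, Matrix.mulVec, dotProduct, Fin.sum_univ_three]
      ring
  funext j
  rw [hk, h2, hc, one_mul]

theorem tn_mulVec {c k : Mt} (hc : c.det = 1) (hck : c * k = 1) (u v w u' v' w' : Fin 3 → F3) :
    tn (c *ᵥ u) (c *ᵥ v) (c *ᵥ w) (kᵀ *ᵥ u') (kᵀ *ᵥ v') (kᵀ *ᵥ w') = c * tn u v w u' v' w' * cᵀ := by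
  have h : ∀ p q : Fin 3 → F3, c * vecMulVec p q * cᵀ = vecMulVec (c *ᵥ p) (c *ᵥ q) := by
    intro p q
    rw [Matrix.mul_vecMulVec, Matrix.vecMulVec_mul, Matrix.vecMul_transpose]
  rw [tn, tn, Matrix.mul_add, Matrix.mul_add, Matrix.add_mul, Matrix.add_mul, h, h, h, cr_mulVec hc hck, cr_mulVec hc hck,
    cr_mulVec hc hck]

theorem mX_pk {p q : F3} {X Y : Mt} (hX : Xᵀ = X) : mX (pk p X Y q) = X := by
  have hs : ∀ i j, X i j = X j i := fun i j => by conv_lhs => rw [← hX, transpose_apply]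
  ext i j
  fin_cases i <;> fin_cases j <;> simp [mX, pk, hs 1 0, hs 2 0, hs 2 1]

theorem mY_pk {p q : F3} {X Y : Mt} (hY : Yᵀ = Y) : mY (pk p X Y q) = Y := by
  have hs : ∀ i j, Y i j = Y j i := fun i j => by conv_lhs => rw [← hY, transpose_apply]
  ext i j
  fin_cases i <;> fin_cases j <;> simp [mY, pk, hs 1 0, hs 2 0, hs 2 1]

theorem mX_symm (φ : V14) : (mX φ)ᵀ = mX φ := by
  ext i j
  fin_cases i <;> fin_cases j <;> rfl

theorem mY_symm (φ : V14) : (mY φ)ᵀ = mY φ := by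
  ext i j
  fin_cases i <;> fin_cases j <;> rfl

theorem mX_add (φ ψ : V14) : mX (φ + ψ) = mX φ + mX ψ := by
  ext i j
  fin_cases i <;> fin_cases j <;> rfl

theorem mY_add (φ ψ : V14) : mY (φ + ψ) = mY φ + mY ψ := by
  ext i j
  fin_cases i <;> fin_cases j <;> rfl

theorem mX_smul (r : F3) (φ : V14) : mX (r • φ) = r • mX φ := by
  ext i j
  fin_cases i <;> fin_cases j <;> rfl

theorem mY_smul (r : F3) (φ : V14) : mY (r • φ) = r • mY φ := by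
  ext i j
  fin_cases i <;> fin_cases j <;> rfl

theorem pk_add (p q p' q' : F3) (X Y X' Y' : Mt) : pk (p + p') (X + X') (Y + Y') (q + q') = pk p X Y q + pk p' X' Y' q' := by
  funext k
  fin_cases k <;> rfl

theorem pk_smul (r p q : F3) (X Y : Mt) : pk (r * p) (r • X) (r • Y) (r * q) = r • pk p X Y q := by
  funext k
  fin_cases k <;> rfl

/-- `d(c)`, `c k = 1`, as a linear map -/
def dL (c k : Mt) : V14 →ₗ[F3] V14 where
  toFun φ := pk (φ 0) (c * mX φ * cᵀ) (kᵀ * mY φ * k) (φ 13)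
  map_add' x y := by
    rw [← pk_add, mX_add, mY_add, Matrix.mul_add, Matrix.mul_add, Matrix.add_mul, Matrix.add_mul]
    rfl
  map_smul' r x := by
    rw [RingHom.id_apply, ← pk_smul, mX_smul, mY_smul, Matrix.mul_smul, Matrix.mul_smul, Matrix.smul_mul, Matrix.smul_mul]
    rfl

theorem d3_inr (x y z : V6) : d3 x y z (Sum.inr 0) (Sum.inr 1) (Sum.inr 2) = (Matrix.of ![xf x, xf y, xf z]).det := by
  rw [Matrix.det_fin_three]
  simp [d3, xf]
  ring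

theorem d3_inl (x y z : V6) : d3 x y z (Sum.inl 0) (Sum.inl 1) (Sum.inl 2) = (Matrix.of ![xe x, xe y, xe z]).det := by
  rw [Matrix.det_fin_three]
  simp [d3, xe]
  ring

theorem of_mulVec (c : Mt) (u v w : Fin 3 → F3) : Matrix.of ![c *ᵥ u, c *ᵥ v, c *ᵥ w] = Matrix.of ![u, v, w] * cᵀ := by
  ext i j
  rw [Matrix.mul_apply]
  fin_cases i
  all_goals
    simp [Matrix.mulVec, dotProduct, mul_comm]

theorem ww_dd {c k : Mt} (hc : c.det = 1) (hck : c * k = 1) (x y z x' y' z' : V6)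
    (hx : xe x' = c *ᵥ xe x) (hy : xe y' = c *ᵥ xe y) (hz : xe z' = c *ᵥ xe z)
    (kx : xf x' = kᵀ *ᵥ xf x) (ky : xf y' = kᵀ *ᵥ xf y) (kz : xf z' = kᵀ *ᵥ xf z) :
    dL c k (ww x y z) = ww x' y' z' := by
  have hkc : k * c = 1 := mul_eq_one_comm.1 hck
  have hk : k.det = 1 := by
    have := congrArg Matrix.det hck
    rwa [Matrix.det_mul, hc, one_mul, Matrix.det_one] at this
  have h0 : ∀ x y z : V6, (ww x y z) 0 = d3 x y z (Sum.inr 0) (Sum.inr 1) (Sum.inr 2) := fun _ _ _ => rfl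
  have h13 : ∀ x y z : V6, (ww x y z) 13 = d3 x y z (Sum.inl 0) (Sum.inl 1) (Sum.inl 2) := fun _ _ _ => rfl
  have e1 : ww x' y' z' 0 = ww x y z 0 := by
    rw [h0, h0, d3_inr, d3_inr, kx, ky, kz, of_mulVec, Matrix.det_mul, Matrix.det_transpose, Matrix.det_transpose, hk, mul_one]
  have e2 : ww x' y' z' 13 = ww x y z 13 := by
    rw [h13, h13, d3_inl, d3_inl, hx, hy, hz, of_mulVec, Matrix.det_mul, Matrix.det_transpose, hc, mul_one]
  have e3 : mX (ww x' y' z') = c * mX (ww x y z) * cᵀ := by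
    rw [mX_ww, mX_ww, hx, hy, hz, kx, ky, kz, tn_mulVec hc hck, Matrix.mul_neg, Matrix.neg_mul, Matrix.mul_add,
      Matrix.add_mul, Matrix.transpose_mul, Matrix.transpose_mul, Matrix.transpose_transpose, Matrix.mul_assoc c _ cᵀ,
      Matrix.mul_assoc c _ cᵀ]
  have e4 : mY (ww x' y' z') = kᵀ * mY (ww x y z) * k := by
    have ht : kᵀ * cᵀ = 1 := by rw [← Matrix.transpose_mul, hck, Matrix.transpose_one]
    have h5 := tn_mulVec (c := kᵀ) (k := cᵀ) (by rw [Matrix.det_transpose, hk]) ht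
      (xf x) (xf y) (xf z) (xe x) (xe y) (xe z)
    rw [Matrix.transpose_transpose, Matrix.transpose_transpose] at h5
    rw [mY_ww, mY_ww, hx, hy, hz, kx, ky, kz, h5, Matrix.mul_neg, Matrix.neg_mul, Matrix.mul_add,
      Matrix.add_mul, Matrix.transpose_mul, Matrix.transpose_mul, Matrix.transpose_transpose, Matrix.mul_assoc kᵀ _ k,
      Matrix.mul_assoc kᵀ _ k]
  rw [← pk_eta (ww x' y' z'), e1, e2, e3, e4]
  rfl

theorem rel_dd (c : SpecialLinearGroup (Fin 3) F3) : Rel (dd c) (dL c.1 (c⁻¹).1) := by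
  intro x y z
  have hck : c.1 * (c⁻¹).1 = 1 := congrArg Subtype.val (mul_inv_cancel c)
  have h1 : ∀ x : V6, (dd c).1 *ᵥ x = Sum.elim (c.1 *ᵥ xe x) ((c⁻¹).1ᵀ *ᵥ xf x) := by
    intro x
    show (fromBlocks c.1 0 0 ((c⁻¹).1ᵀ)) *ᵥ x = _
    rw [fromBlocks_mulVec, Matrix.zero_mulVec, Matrix.zero_mulVec, add_zero, zero_add]
    rfl
  rw [h1, h1, h1]
  exact ww_dd c.2 hck _ _ _ _ _ _ rfl rfl rfl rfl rfl rfl

/-! ### Uniqueness -/

theorem rel_unique {A : Sp} {M M' : V14 →ₗ[F3] V14} (h : Rel A M) (h' : Rel A M') : M = M' := by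
  have key : ∀ x y z : V6, M (ww x y z) = M' (ww x y z) := fun x y z => by rw [h, h']
  have hb : ∀ k : Fin 14, ∃ x y z : V6, ww x y z = Pi.single k 1 := by
    intro k
    fin_cases k
    · exact ⟨Pi.single (Sum.inr 0) 1, Pi.single (Sum.inr 1) 1, Pi.single (Sum.inr 2) 1, by decide⟩
    · exact ⟨Pi.single (Sum.inr 1) 1, Pi.single (Sum.inr 2) 1, Pi.single (Sum.inl 0) 1, by decide⟩
    · exact ⟨Pi.single (Sum.inr 2) 1, Pi.single (Sum.inr 0) 1, Pi.single (Sum.inl 1) 1, by decide⟩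
    · exact ⟨Pi.single (Sum.inr 0) 1, Pi.single (Sum.inr 1) 1, Pi.single (Sum.inl 2) 1, by decide⟩
    · exact ⟨Pi.single (Sum.inr 1) 1, Pi.single (Sum.inr 0) 1, Pi.single (Sum.inl 1) 1, by decide⟩
    · exact ⟨Pi.single (Sum.inr 1) 1, Pi.single (Sum.inr 0) 1, Pi.single (Sum.inl 0) 1, by decide⟩
    · exact ⟨Pi.single (Sum.inr 0) 1, Pi.single (Sum.inr 2) 1, Pi.single (Sum.inl 0) 1, by decide⟩
    · exact ⟨Pi.single (Sum.inl 1) 1, Pi.single (Sum.inl 2) 1, Pi.single (Sum.inr 0) 1, by decide⟩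
    · exact ⟨Pi.single (Sum.inl 2) 1, Pi.single (Sum.inl 0) 1, Pi.single (Sum.inr 1) 1, by decide⟩
    · exact ⟨Pi.single (Sum.inl 0) 1, Pi.single (Sum.inl 1) 1, Pi.single (Sum.inr 2) 1, by decide⟩
    · exact ⟨Pi.single (Sum.inl 1) 1, Pi.single (Sum.inl 0) 1, Pi.single (Sum.inr 1) 1, by decide⟩
    · exact ⟨Pi.single (Sum.inl 1) 1, Pi.single (Sum.inl 0) 1, Pi.single (Sum.inr 0) 1, by decide⟩
    · exact ⟨Pi.single (Sum.inl 0) 1, Pi.single (Sum.inl 2) 1, Pi.single (Sum.inr 0) 1, by decide⟩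
    · exact ⟨Pi.single (Sum.inl 0) 1, Pi.single (Sum.inl 1) 1, Pi.single (Sum.inl 2) 1, by decide⟩
  refine LinearMap.pi_ext' fun k => ?_
  ext
  obtain ⟨x, y, z, he⟩ := hb k
  have := key x y z
  rw [he] at this
  simp only [LinearMap.coe_comp, LinearMap.coe_single, Function.comp_apply]
  rw [this]

/-! ### Fixed vectors -/

theorem pk_inj {p q p' q' : F3} {X Y X' Y' : Mt} (hX : Xᵀ = X) (hY : Yᵀ = Y) (hX' : X'ᵀ = X') (hY' : Y'ᵀ = Y')
    (h : pk p X Y q = pk p' X' Y' q') : p = p' ∧ X = X' ∧ Y = Y' ∧ q = q' := by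
  refine ⟨congrFun h 0, ?_, ?_, congrFun h 13⟩
  · have := congrArg mX h
    rwa [mX_pk hX, mX_pk hX'] at this
  · have := congrArg mY h
    rwa [mY_pk hY, mY_pk hY'] at this

theorem dL_fix {c k : Mt} (hF : Pw.Fpf c) (hck : c * k = 1) {ψ : V14} (h : dL c k ψ = ψ) :
    ψ = pk (ψ 0) 0 0 (ψ 13) := by
  have hkc : k * c = 1 := mul_eq_one_comm.1 hck
  have h' : pk (ψ 0) (c * mX ψ * cᵀ) (kᵀ * mY ψ * k) (ψ 13) = pk (ψ 0) (mX ψ) (mY ψ) (ψ 13) := h.trans (pk_eta ψ).symm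
  have s1 : (c * mX ψ * cᵀ)ᵀ = c * mX ψ * cᵀ := by
    rw [Matrix.transpose_mul, Matrix.transpose_mul, Matrix.transpose_transpose, mX_symm, Matrix.mul_assoc]
  have s2 : (kᵀ * mY ψ * k)ᵀ = kᵀ * mY ψ * k := by
    rw [Matrix.transpose_mul, Matrix.transpose_mul, Matrix.transpose_transpose, mY_symm, Matrix.mul_assoc]
  obtain ⟨-, h1, h2, -⟩ := pk_inj s1 s2 (mX_symm ψ) (mY_symm ψ) h'
  have h3 := hF.inj' _ h1
  have h4 : mY ψ = 0 := by
    apply hF.inj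
    have ht : cᵀ * kᵀ = 1 := by rw [← Matrix.transpose_mul, hkc, Matrix.transpose_one]
    calc cᵀ * mY ψ * c = cᵀ * (kᵀ * mY ψ * k) * c := by rw [h2]
      _ = (cᵀ * kᵀ) * mY ψ * (k * c) := by simp only [Matrix.mul_assoc]
      _ = mY ψ := by rw [ht, hkc, Matrix.one_mul, Matrix.mul_one]
  conv_lhs => rw [← pk_eta ψ, h3, h4]

theorem m2 : ∀ a : F3, -(2 * a) = a := by decide

theorem uF_pk (a b c d e f p q : F3) : uF a b c d e f (pk p 0 0 q) =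
    ![p, p * a, p * d, p * f, p * e, p * c, p * b, p * (d * f - e * e), p * (a * f - c * c), p * (a * d - b * b),
      p * (b * c - a * e), p * (b * e - c * d), p * (c * e - b * f),
      q + p * (a * (d * f - e * e) - b * (b * f - c * e) + c * (b * e - c * d))] := by
  have h0 : pk p 0 0 q 0 = p := rfl
  have h13 : pk p 0 0 q 13 = q := rfl
  have g1 : pk p 0 0 q 1 = 0 := rfl
  have g2 : pk p 0 0 q 2 = 0 := rfl
  have g3 : pk p 0 0 q 3 = 0 := rfl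
  have g4 : pk p 0 0 q 4 = 0 := rfl
  have g5 : pk p 0 0 q 5 = 0 := rfl
  have g6 : pk p 0 0 q 6 = 0 := rfl
  have g7 : pk p 0 0 q 7 = 0 := rfl
  have g8 : pk p 0 0 q 8 = 0 := rfl
  have g9 : pk p 0 0 q 9 = 0 := rfl
  have g10 : pk p 0 0 q 10 = 0 := rfl
  have g11 : pk p 0 0 q 11 = 0 := rfl
  have g12 : pk p 0 0 q 12 = 0 := rfl
  have e1 : ∀ x : F3, -2 * x * p = p * x := fun x => by
    calc -2 * x * p = -(2 * (p * x)) := by ring
      _ = p * x := m2 _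
  have e2 : ∀ x : F3, -2 * p * x = p * x := fun x => by
    calc -2 * p * x = -(2 * (p * x)) := by ring
      _ = p * x := m2 _
  rw [uF, h0, h13, g1, g2, g3, g4, g5, g6, g7, g8, g9, g10, g11, g12]
  simp only [zero_mul, mul_zero, zero_add, add_zero, sub_zero, zero_sub, ← neg_mul, e1, e2]
  congr 1
  simp only [mul_comm p]

theorem uL_pk {T : Mt} (hT : Tᵀ = T) (p q : F3) :
    uL T (pk p 0 0 q) = pk p (p • T) (p • T.adjugate) (q + p * T.det) := by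
  have hs : ∀ i j, T i j = T j i := fun i j => by conv_lhs => rw [← hT, transpose_apply]
  have a0 : T.adjugate 0 0 = T 1 1 * T 2 2 - T 1 2 * T 1 2 := by
    rw [Matrix.adjugate_fin_three]
    simp [hs 1 0, hs 2 0, hs 2 1]
  have a1 : T.adjugate 1 1 = T 0 0 * T 2 2 - T 0 2 * T 0 2 := by
    rw [Matrix.adjugate_fin_three]
    simp [hs 1 0, hs 2 0, hs 2 1]
  have a2 : T.adjugate 2 2 = T 0 0 * T 1 1 - T 0 1 * T 0 1 := by
    rw [Matrix.adjugate_fin_three]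
    simp [hs 1 0, hs 2 0, hs 2 1]
  have a3 : T.adjugate 1 2 = T 0 1 * T 0 2 - T 0 0 * T 1 2 := by
    rw [Matrix.adjugate_fin_three]
    simp [hs 1 0, hs 2 0, hs 2 1]
    ring
  have a4 : T.adjugate 0 2 = T 0 1 * T 1 2 - T 0 2 * T 1 1 := by
    rw [Matrix.adjugate_fin_three]
    simp [hs 1 0, hs 2 0, hs 2 1]
  have a5 : T.adjugate 0 1 = T 0 2 * T 1 2 - T 0 1 * T 2 2 := by
    rw [Matrix.adjugate_fin_three]
    simp [hs 1 0, hs 2 0, hs 2 1]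
    ring
  have a6 : T.det = T 0 0 * (T 1 1 * T 2 2 - T 1 2 * T 1 2) - T 0 1 * (T 0 1 * T 2 2 - T 0 2 * T 1 2) +
      T 0 2 * (T 0 1 * T 1 2 - T 0 2 * T 1 1) := by
    rw [Matrix.det_fin_three, hs 1 0, hs 2 0, hs 2 1]
    ring
  show uF _ _ _ _ _ _ (pk p 0 0 q) = _
  rw [uF_pk, pk]
  simp only [Matrix.smul_apply, smul_eq_mul, a0, a1, a2, a3, a4, a5, a6]

theorem swL_pk (p q : F3) (X Y : Mt) : swL (pk p X Y q) = pk q Y X p := by
  funext k
  fin_cases k <;> rfl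

theorem vL_pk {S : Mt} (hS : Sᵀ = S) (p q : F3) :
    vL S (pk p 0 0 q) = pk (p + q * S.det) (q • S.adjugate) (q • S) q := by
  show swL (uL S (swL (pk p 0 0 q))) = _
  rw [swL_pk, uL_pk hS, swL_pk]

theorem vv_inv {S : Mt} (hS : Sᵀ = S) : (vv S hS)⁻¹ = vv (-S) (by rw [transpose_neg, hS]) := by
  apply inv_eq_of_mul_eq_one_right
  apply Subtype.ext
  show (fromBlocks 1 0 S 1 * fromBlocks 1 0 (-S) 1 : Matrix (Fin 3 ⊕ Fin 3) (Fin 3 ⊕ Fin 3) F3) = 1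
  rw [fromBlocks_multiply, ← fromBlocks_one]
  simp

theorem uu_inv {S : Mt} (hS : Sᵀ = S) : (uu S hS)⁻¹ = uu (-S) (by rw [transpose_neg, hS]) := by
  apply inv_eq_of_mul_eq_one_right
  apply Subtype.ext
  show (fromBlocks 1 S 0 1 * fromBlocks 1 (-S) 0 1 : Matrix (Fin 3 ⊕ Fin 3) (Fin 3 ⊕ Fin 3) F3) = 1
  rw [fromBlocks_multiply, ← fromBlocks_one]
  simp

/-- fixed vectors of a conjugate -/
theorem conj_fix {B D : Sp} {N N' K M : V14 →ₗ[F3] V14} (hN : Rel B N) (hN' : Rel B⁻¹ N') (hK : Rel D K)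
    (hM : Rel (B * D * B⁻¹) M) {φ : V14} (hφ : M φ = φ) : K (N' φ) = N' φ ∧ φ = N (N' φ) := by
  have h1 : N * N' = 1 := rel_unique (by have := hN.mul hN'; rwa [mul_inv_cancel] at this) Rel.one
  have h2 : N' * N = 1 := rel_unique (by have := hN'.mul hN; rwa [inv_mul_cancel] at this) Rel.one
  have h3 : M = N * K * N' := rel_unique hM ((hN.mul hK).mul hN')
  have h4 : ∀ v, N (N' v) = v := fun v => LinearMap.congr_fun h1 v
  have h5 : ∀ v, N' (N v) = v := fun v => LinearMap.congr_fun h2 v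
  refine ⟨?_, (h4 φ).symm⟩
  have h6 : N (K (N' φ)) = φ := by
    have := LinearMap.congr_fun h3 φ
    rw [hφ] at this
    exact this.symm
  rw [← h5 (K (N' φ)), h6]

theorem symm_adj {X : Mt} (hX : Xᵀ = X) : (X.adjugate)ᵀ = X.adjugate := by
  rw [Matrix.adjugate_transpose, hX]

/-- **No common fixed vectors.** -/
theorem no_common {c₁ c₂ : SpecialLinearGroup (Fin 3) F3} {X Y : Mt} (hX : Xᵀ = X) (hY : Yᵀ = Y) (h1 : Pw.Fpf c₁.1)
    (h2 : Pw.Fpf c₂.1) (hX0 : X ≠ 0) (hY0 : Y ≠ 0) (hXY : X * Y ≠ 1) {M₁ M₂ : V14 →ₗ[F3] V14}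
    (r1 : Rel (vv X hX * dd c₁ * (vv X hX)⁻¹) M₁) (r2 : Rel (uu Y hY * dd c₂ * (uu Y hY)⁻¹) M₂) {φ : V14}
    (f1 : M₁ φ = φ) (f2 : M₂ φ = φ) : φ = 0 := by
  obtain ⟨g1, k1⟩ := conj_fix (rel_vv hX) (by rw [vv_inv hX]; exact rel_vv _) (rel_dd c₁) r1 f1
  obtain ⟨g2, k2⟩ := conj_fix (rel_uu hY) (by rw [uu_inv hY]; exact rel_uu _) (rel_dd c₂) r2 f2
  have e1 := dL_fix h1 (congrArg Subtype.val (mul_inv_cancel c₁)) g1
  have e2 := dL_fix h2 (congrArg Subtype.val (mul_inv_cancel c₂)) g2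
  generalize vL (-X) φ = ψ₁ at e1 k1
  generalize uL (-Y) φ = ψ₂ at e2 k2
  rw [e1, vL_pk hX] at k1
  rw [e2, uL_pk hY] at k2
  generalize ψ₁ 0 = p at k1
  generalize ψ₁ 13 = q at k1
  generalize ψ₂ 0 = p' at k2
  generalize ψ₂ 13 = q' at k2
  rw [k1] at k2
  have sm : ∀ (r : F3) {Z : Mt}, Zᵀ = Z → (r • Z)ᵀ = r • Z := fun r Z hZ => by rw [Matrix.transpose_smul, hZ]
  obtain ⟨a1, a2, a3, a4⟩ := pk_inj (sm _ (symm_adj hX)) (sm _ hX) (sm _ hY) (sm _ (symm_adj hY)) k2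
  by_cases hq : q = 0
  · subst hq
    rw [zero_smul] at a2
    have hp' : p' = 0 := by
      by_contra h
      exact (smul_ne_zero h hY0) a2.symm
    rw [zero_mul, add_zero, hp'] at a1
    rw [k1, a1, zero_smul, zero_smul, zero_mul, add_zero]
    funext k
    fin_cases k <;> rfl
  · exfalso
    have hp' : p' ≠ 0 := by
      intro h
      rw [h, zero_smul] at a3
      exact (smul_ne_zero hq hX0) a3
    have ht : ∃ t : F3, t * t = 1 ∧ p' = q * t := by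
      revert hq hp'
      clear * - 
      revert q p'
      decide
    obtain ⟨t, htt, rfl⟩ := ht
    rw [mul_smul] at a2 a3
    have b2 : X.adjugate = t • Y := smul_right_injective _ hq a2
    have b3 : X = t • Y.adjugate := smul_right_injective _ hq a3
    have b4 : X.adjugate = Y.det • Y := by
      rw [b3, Matrix.adjugate_smul, Matrix.adjugate_adjugate _ (by decide)]
      have : t ^ (Fintype.card (Fin 3) - 1) = 1 := by
        rw [← htt]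
        exact pow_two t
      rw [this, one_smul]
      have h7 : Y.det ^ (Fintype.card (Fin 3) - 2) = Y.det := pow_one _
      rw [h7]
    have b5 : Y.det = t := by
      have h8 : (Y.det - t) • Y = 0 := by rw [sub_smul, ← b4, b2, sub_self]
      by_contra h9
      exact smul_ne_zero (sub_ne_zero.2 h9) hY0 h8
    apply hXY
    rw [b3, Matrix.smul_mul, Matrix.adjugate_mul, b5, smul_smul, htt, one_smul]

/-! ### The frame theorem in the symplectic group -/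

theorem isSp_of {l : Sp} : Pw.IsSp l.1 := SymplecticGroup.mem_iff'.1 l.2

theorem mem_of_isSp {g : Pw.M6} (h : Pw.IsSp g) : g ∈ Matrix.symplecticGroup (Fin 3) F3 := SymplecticGroup.mem_iff'.2 h

theorem dd_coe {c : SpecialLinearGroup (Fin 3) F3} : (dd c).1 = Pw.dd c.1 := by
  have hck : c.1 * (c⁻¹).1 = 1 := congrArg Subtype.val (mul_inv_cancel c)
  show fromBlocks c.1 0 0 ((c⁻¹).1ᵀ) = fromBlocks c.1 0 0 ((c.1)⁻¹)ᵀ
  rw [Matrix.inv_eq_right_inv hck]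

/-- **Frame.** `l ≠ ±1` in `Sp_6(3)`. -/
theorem frame {l : Sp} (h1 : l ≠ 1) (h2 : l ≠ ng) :
    ∃ (g : Sp) (c₁ c₂ : SpecialLinearGroup (Fin 3) F3) (X Y : Mt) (hX : Xᵀ = X) (hY : Yᵀ = Y),
      Pw.Fpf c₁.1 ∧ Pw.Fpf c₂.1 ∧ X ≠ 0 ∧ Y ≠ 0 ∧ X * Y ≠ 1 ∧
      g * l * g⁻¹ = (vv X hX * dd c₁ * (vv X hX)⁻¹) * (uu Y hY * dd c₂ * (uu Y hY)⁻¹) := by
  obtain ⟨g, g', hg, hgg, c₁, c₂, X, Y, f1, f2, hX, hY, hX0, hY0, hXY, he⟩ := Pw.sp_frame (l := l.1) isSp_of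
    (fun h => h1 (Subtype.ext h)) (fun h => h2 (Subtype.ext h))
  let G : Sp := ⟨g, mem_of_isSp hg⟩
  let G' : Sp := ⟨g', mem_of_isSp (hg.of_inv hgg)⟩
  have hG : G * G' = 1 := Subtype.ext hgg
  have hG' : G⁻¹ = G' := inv_eq_of_mul_eq_one_right hG
  refine ⟨G, ⟨c₁, f1.det⟩, ⟨c₂, f2.det⟩, X, Y, hX, hY, f1, f2, hX0, hY0, hXY, ?_⟩
  rw [hG', vv_inv hX, uu_inv hY]
  apply Subtype.ext
  refine he.trans ?_
  have d1 : Pw.dd c₁ = (dd ⟨c₁, f1.det⟩).1 := (dd_coe (c := ⟨c₁, f1.det⟩)).symm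
  have d2 : Pw.dd c₂ = (dd ⟨c₂, f2.det⟩).1 := (dd_coe (c := ⟨c₂, f2.det⟩)).symm
  rw [d1, d2]
  rfl

theorem dd_mul (c c' : SpecialLinearGroup (Fin 3) F3) : dd (c * c') = dd c * dd c' := by
  apply Subtype.ext
  show fromBlocks (c.1 * c'.1) 0 0 (((c * c')⁻¹).1ᵀ) = fromBlocks c.1 0 0 ((c⁻¹).1ᵀ) * fromBlocks c'.1 0 0 ((c'⁻¹).1ᵀ)
  have h : ((c * c')⁻¹).1ᵀ = (c⁻¹).1ᵀ * (c'⁻¹).1ᵀ := by
    rw [_root_.mul_inv_rev, ← Matrix.transpose_mul]
    rfl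
  rw [h, fromBlocks_multiply]
  simp

theorem dd_one : dd 1 = 1 := by
  have h := dd_mul 1 1
  rw [one_mul] at h
  exact left_eq_mul.1 h

theorem dd_pow (c : SpecialLinearGroup (Fin 3) F3) (n : ℕ) : dd (c ^ n) = dd c ^ n := by
  induction n with
  | zero => rw [pow_zero, pow_zero, dd_one]
  | succ n ih => rw [pow_succ, pow_succ, dd_mul, ih]

theorem dd_pow13 {c : SpecialLinearGroup (Fin 3) F3} (h : Pw.Fpf c.1) : dd c ^ 13 = 1 := by
  have h0 : (c ^ 13).1 = c.1 ^ 13 := Matrix.SpecialLinearGroup.coe_pow c 13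
  have h1 : c ^ 13 = 1 := Subtype.ext (h0.trans h.pow)
  rw [← dd_pow, h1, dd_one]

theorem dd_ne {c : SpecialLinearGroup (Fin 3) F3} (h : Pw.Fpf c.1) : dd c ≠ 1 := by
  intro h1
  apply h.ne
  have h2 : fromBlocks c.1 0 0 ((c⁻¹).1ᵀ) = (fromBlocks 1 0 0 1 : Matrix (Fin 3 ⊕ Fin 3) (Fin 3 ⊕ Fin 3) F3) := by
    rw [fromBlocks_one]
    exact congrArg Subtype.val h1
  exact (fromBlocks_inj.1 h2).1

theorem conj_pow' {G : Type*} [Group G] (a b : G) (n : ℕ) (h : b ^ n = 1) : (a * b * a⁻¹) ^ n = 1 := by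
  rw [conj_pow, h, mul_one, mul_inv_cancel]

theorem conj_ne {G : Type*} [Group G] (a b : G) (h : b ≠ 1) : a * b * a⁻¹ ≠ 1 := by
  intro h1
  exact h (conj_eq_one_iff.1 h1)

/-- **Frame, packed.** -/
theorem frame13 {l : Sp} (h1 : l ≠ 1) (h2 : l ≠ ng) :
    ∃ g A₁ A₂ : Sp, g * l * g⁻¹ = A₁ * A₂ ∧ A₁ ^ 13 = 1 ∧ A₂ ^ 13 = 1 ∧ A₁ ≠ 1 ∧ A₂ ≠ 1 ∧
      ∀ (M₁ M₂ : V14 →ₗ[F3] V14), Rel A₁ M₁ → Rel A₂ M₂ → ∀ φ : V14, M₁ φ = φ → M₂ φ = φ → φ = 0 := by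
  obtain ⟨g, c₁, c₂, X, Y, hX, hY, f1, f2, hX0, hY0, hXY, he⟩ := frame h1 h2
  exact ⟨g, _, _, he, conj_pow' _ _ _ (dd_pow13 f1), conj_pow' _ _ _ (dd_pow13 f2), conj_ne _ _ (dd_ne f1),
    conj_ne _ _ (dd_ne f2), fun M₁ M₂ r1 r2 φ k1 k2 => no_common hX hY f1 f2 hX0 hY0 hXY r1 r2 k1 k2⟩

end Cfsg.Agent.H267.SpFx
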