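import Cfsg.Agent.H267.Pw.SpPair

/-!
# `Sp_6(3)`: products of two elements of order 13 in opposite positions (helper267; S2465, `F_4(3)`, piece F-E3)

`sp_frame` : `l ∈ Sp_6(3)`, `l ≠ ±1`, is conjugate to `(v(X) d(c₁) v(X)⁻¹) (u(Y) d(c₂) u(Y)⁻¹)`, `c₁`, `c₂` of order 13, `X, Y ≠ 0`
symmetric, `X Y ≠ 1`.
-/

set_option autoImplicit false

namespace Cfsg.Agent.H267.Pw

open Matrix M9

/-- 6 × 6 matrices -/
abbrev M6 := Matrix (Fin 3 ⊕ Fin 3) (Fin 3 ⊕ Fin 3) (ZMod 3)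

/-- the symplectic form -/
def J6 : M6 := fromBlocks 0 (-1) 1 0

/-- lower unipotent -/
def vv (S : Mat) : M6 := fromBlocks 1 0 S 1

/-- upper unipotent -/
def uu (T : Mat) : M6 := fromBlocks 1 T 0 1

/-- the Levi subgroup -/
noncomputable def dd (A : Mat) : M6 := fromBlocks A 0 0 (A⁻¹)ᵀ

/-- symplectic matrices -/
def IsSp (M : M6) : Prop := Mᵀ * J6 * M = J6

theorem isSp_iff {a b c d : Mat} : IsSp (fromBlocks a b c d) ↔ aᵀ * c = cᵀ * a ∧ aᵀ * d - cᵀ * b = 1 ∧ bᵀ * d = dᵀ * b := by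
  have h1 : (fromBlocks a b c d)ᵀ * J6 * fromBlocks a b c d =
      fromBlocks (cᵀ * a - aᵀ * c) (cᵀ * b - aᵀ * d) (dᵀ * a - bᵀ * c) (dᵀ * b - bᵀ * d) := by
    rw [J6, fromBlocks_transpose, fromBlocks_multiply, fromBlocks_multiply]
    congr 1 <;> simp [sub_eq_add_neg, add_comm]
  rw [IsSp, h1, J6, fromBlocks_inj]
  constructor
  · rintro ⟨h2, h3, h4, h5⟩
    refine ⟨(sub_eq_zero.1 h2).symm, ?_, (sub_eq_zero.1 h5).symm⟩
    rw [← neg_sub, h3, neg_neg]
  · rintro ⟨h2, h3, h4⟩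
    refine ⟨by rw [h2, sub_self], by rw [← neg_sub, h3], ?_, by rw [h4, sub_self]⟩
    have := congrArg Matrix.transpose h3
    rw [transpose_sub, transpose_mul, transpose_mul, transpose_transpose, transpose_transpose, transpose_one] at this
    exact this

theorem IsSp.mul {M N : M6} (hM : IsSp M) (hN : IsSp N) : IsSp (M * N) := by
  rw [IsSp] at hM hN ⊢
  rw [transpose_mul]
  calc Nᵀ * Mᵀ * J6 * (M * N) = Nᵀ * (Mᵀ * J6 * M) * N := by simp only [Matrix.mul_assoc]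
    _ = J6 := by rw [hM, hN]

theorem IsSp.of_inv {g g' : M6} (hg : IsSp g) (h : g * g' = 1) : IsSp g' := by
  rw [IsSp] at hg ⊢
  calc g'ᵀ * J6 * g' = g'ᵀ * (gᵀ * J6 * g) * g' := by rw [hg]
    _ = (g * g')ᵀ * J6 * (g * g') := by rw [transpose_mul]; simp only [Matrix.mul_assoc]
    _ = J6 := by rw [h, transpose_one, Matrix.one_mul, Matrix.mul_one]

/-- conjugacy in the symplectic group -/
def Cj (l l' : M6) : Prop := ∃ g g' : M6, IsSp g ∧ g * g' = 1 ∧ g * l * g' = l'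

theorem Cj.trans {l l' l'' : M6} (h : Cj l l') (h' : Cj l' l'') : Cj l l'' := by
  obtain ⟨g, g', h1, h2, h3⟩ := h
  obtain ⟨k, k', h4, h5, h6⟩ := h'
  refine ⟨k * g, g' * k', h4.mul h1, ?_, ?_⟩
  · calc k * g * (g' * k') = k * (g * g') * k' := by simp only [Matrix.mul_assoc]
      _ = 1 := by rw [h2, Matrix.mul_one, h5]
  · calc k * g * l * (g' * k') = k * (g * l * g') * k' := by simp only [Matrix.mul_assoc]
      _ = l'' := by rw [h3, h6]

theorem Cj.isSp {l l' : M6} (h : Cj l l') (hl : IsSp l) : IsSp l' := by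
  obtain ⟨g, g', h1, h2, rfl⟩ := h
  exact (h1.mul hl).mul (h1.of_inv h2)

theorem isSp_uu {P : Mat} (hP : Pᵀ = P) : IsSp (uu P) := by
  rw [uu, isSp_iff]
  simp [hP]

theorem isSp_vv {P : Mat} (hP : Pᵀ = P) : IsSp (vv P) := by
  rw [vv, isSp_iff]
  simp [hP]

theorem uu_mul (P Q : Mat) : uu P * uu Q = uu (P + Q) := by
  rw [uu, uu, fromBlocks_multiply, uu]
  simp [add_comm]

theorem vv_mul (P Q : Mat) : vv P * vv Q = vv (P + Q) := by
  rw [vv, vv, fromBlocks_multiply, vv]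
  simp

theorem uu_zero : uu 0 = 1 := by rw [uu, fromBlocks_one]

theorem vv_zero : vv 0 = 1 := by rw [vv, fromBlocks_one]

/-- conjugation by `u(P)` -/
theorem cj_uu {a b c d P : Mat} (hP : Pᵀ = P) :
    Cj (fromBlocks a b c d) (fromBlocks (a + P * c) (b + P * d - (a + P * c) * P) c (d - c * P)) := by
  refine ⟨uu P, uu (-P), isSp_uu hP, by rw [uu_mul, add_neg_cancel, uu_zero], ?_⟩
  rw [uu, uu, fromBlocks_multiply, fromBlocks_multiply]
  congr 1 <;> simp [sub_eq_add_neg, add_comm]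

theorem isSp_dd {g g' : Mat} (h : g * g' = 1) : IsSp (fromBlocks g 0 0 g'ᵀ) := by
  rw [isSp_iff]
  refine ⟨by simp, ?_, by simp⟩
  rw [Matrix.mul_zero, sub_zero, ← transpose_mul, mul_eq_one_comm.1 h, transpose_one]

/-- conjugation by `d(g)` -/
theorem cj_dd {a b c d g g' : Mat} (h : g * g' = 1) :
    Cj (fromBlocks a b c d) (fromBlocks (g * a * g') (g * b * gᵀ) (g'ᵀ * c * g') (g'ᵀ * d * gᵀ)) := by
  refine ⟨fromBlocks g 0 0 g'ᵀ, fromBlocks g' 0 0 gᵀ, isSp_dd h, ?_, ?_⟩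
  · rw [fromBlocks_multiply, ← fromBlocks_one]
    congr 1 <;> simp [h, ← transpose_mul]
  · rw [fromBlocks_multiply, fromBlocks_multiply]
    congr 1 <;> simp

/-- conjugation by the Weyl element -/
theorem cj_J {a b c d : Mat} : Cj (fromBlocks a b c d) (fromBlocks d (-c) (-b) a) := by
  refine ⟨J6, fromBlocks 0 1 (-1) 0, ?_, ?_, ?_⟩
  · rw [J6, isSp_iff]
    simp
  · rw [J6, fromBlocks_multiply, ← fromBlocks_one]
    congr 1 <;> simp
  · rw [J6, fromBlocks_multiply, fromBlocks_multiply]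
    congr 1 <;> simp

/-! ### The lower left block -/

/-- scalar matrices -/
theorem scalar_of_comm {a d : Mat} (h : ∀ P : Mat, Pᵀ = P → P * d = a * P) : ∃ t : ZMod 3, a = t • (1 : Mat) ∧ d = a := by
  have h1 := h 1 transpose_one
  rw [Matrix.one_mul, Matrix.mul_one] at h1
  subst h1
  have hd : ∀ i, single i i (1 : ZMod 3) * d = d * single i i 1 := fun i => h _ (by rw [transpose_single])
  have ho : ∀ i j, (single i j (1 : ZMod 3) + single j i 1) * d = d * (single i j 1 + single j i 1) := fun i j =>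
    h _ (by rw [transpose_add, transpose_single, transpose_single, add_comm])
  have h2 : ∀ i j, i ≠ j → d i j = 0 := by
    intro i j hij
    have h3 := congrFun (congrFun (hd i) i) j
    rw [single_mul_apply_same, one_mul] at h3
    rw [h3, mul_single_apply_of_ne _ _ _ _ _ hij.symm]
  have h3 : ∀ i j, d i i = d j j := by
    intro i j
    by_cases hij : i = j
    · rw [hij]
    · have h4 := congrFun (congrFun (ho i j) i) j
      rw [add_mul, mul_add, Matrix.add_apply, Matrix.add_apply, single_mul_apply_same, one_mul,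
        single_mul_apply_of_ne _ _ _ _ _ hij, mul_single_apply_same, mul_one,
        mul_single_apply_of_ne _ _ _ _ _ (Ne.symm hij)] at h4
      · rw [add_zero, add_zero] at h4
        exact h4.symm
  refine ⟨d 0 0, ?_, rfl⟩
  ext i j
  by_cases hij : i = j
  · subst hij
    rw [Matrix.smul_apply, one_apply_eq, smul_eq_mul, mul_one, h3]
  · rw [h2 i j hij, Matrix.smul_apply, one_apply_ne hij, smul_zero]

/-- Step 1: the lower left block can be made nonzero. -/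
theorem step_one {l : M6} (hl : IsSp l) (h1 : l ≠ 1) (h2 : l ≠ -1) :
    ∃ a b c d : Mat, Cj l (fromBlocks a b c d) ∧ c ≠ 0 := by
  obtain ⟨a, b, c, d, rfl⟩ : ∃ a b c d : Mat, l = fromBlocks a b c d :=
    ⟨_, _, _, _, (fromBlocks_toBlocks l).symm⟩
  have hrefl : ∀ l : M6, Cj l l := fun l => ⟨1, 1, by rw [IsSp, transpose_one, Matrix.one_mul, Matrix.mul_one],
    Matrix.one_mul 1, by rw [Matrix.one_mul, Matrix.mul_one]⟩
  by_cases hc : c = 0
  · subst hc
    by_cases hex : ∃ P : Mat, Pᵀ = P ∧ b + P * d - (a + P * 0) * P ≠ 0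
    · obtain ⟨P, hP, hne⟩ := hex
      exact ⟨_, _, _, _, (cj_uu hP).trans cj_J, neg_ne_zero.2 hne⟩
    · push Not at hex
      exfalso
      have hb := hex 0 transpose_zero
      rw [Matrix.zero_mul, Matrix.mul_zero, add_zero, sub_zero] at hb
      subst hb
      have h3 : ∀ P : Mat, Pᵀ = P → P * d = a * P := by
        intro P hP
        have h4 := hex P hP
        rw [Matrix.mul_zero, add_zero, zero_add, sub_eq_zero] at h4
        exact h4
      obtain ⟨t, ht, hda⟩ := scalar_of_comm h3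
      rw [isSp_iff] at hl
      obtain ⟨-, h5, -⟩ := hl
      rw [hda, ht, transpose_zero, Matrix.zero_mul, sub_zero, transpose_smul, transpose_one, Matrix.smul_mul,
        Matrix.mul_smul, Matrix.one_mul] at h5
      have h6 : t * t = 1 := by
        have := congrFun (congrFun h5 0) 0
        simpa using this
      have h7 : t = 1 ∨ t = -1 := (by decide : ∀ t : ZMod 3, t * t = 1 → t = 1 ∨ t = -1) t h6
      rcases h7 with h7 | h7
      · apply h1
        rw [hda, ht, h7, one_smul, fromBlocks_one]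
      · apply h2
        rw [hda, ht, h7, neg_one_smul, ← fromBlocks_one, fromBlocks_neg, neg_zero]
  · exact ⟨a, b, c, d, hrefl _, hc⟩

/-! ### The upper left block -/

/-- Step 2a: the upper left block can be made invertible. -/
theorem exists_inv (c : Mat) : ∀ (n : ℕ) (a : Mat), (Finset.univ.filter fun z : Fin 3 → ZMod 3 => a *ᵥ z = 0).card ≤ n →
    aᵀ * c = cᵀ * a → (∀ x : Fin 3 → ZMod 3, a *ᵥ x = 0 → c *ᵥ x = 0 → x = 0) →
    ∃ P : Mat, Pᵀ = P ∧ (a + P * c).det ≠ 0 := by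
  intro n
  induction n with
  | zero =>
    intro a hn _ _
    exfalso
    have h1 : (0 : Fin 3 → ZMod 3) ∈ (Finset.univ.filter fun z : Fin 3 → ZMod 3 => a *ᵥ z = 0) := by
      rw [Finset.mem_filter]
      exact ⟨Finset.mem_univ _, Matrix.mulVec_zero a⟩
    have h2 := Finset.card_pos.2 ⟨_, h1⟩
    omega
  | succ n ih =>
    intro a hn hs hr
    by_cases hdet : a.det = 0
    · obtain ⟨y, hy0, hy⟩ := Matrix.exists_mulVec_eq_zero_iff.2 hdet
      have hcy : c *ᵥ y ≠ 0 := fun h => hy0 (hr y hy h)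
      obtain ⟨i, hi⟩ := Function.ne_iff.1 hcy
      have hi' : (c *ᵥ y) i ≠ 0 := hi
      have key : ∀ z : Fin 3 → ZMod 3, (a + single i i 1 * c) *ᵥ z = a *ᵥ z + Pi.single i ((c *ᵥ z) i) := by
        intro z
        rw [Matrix.add_mulVec, ← Matrix.mulVec_mulVec]
        congr 1
        ext j
        rw [single_mulVec, one_mul]
        rfl
      have hsub : ∀ z : Fin 3 → ZMod 3, (a + single i i 1 * c) *ᵥ z = 0 → a *ᵥ z = 0 ∧ (c *ᵥ z) i = 0 := by
        intro z hz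
        rw [key] at hz
        have h1 : (c *ᵥ y) ⬝ᵥ (a *ᵥ z) = 0 := by
          have h2 : (c *ᵥ y) ⬝ᵥ (a *ᵥ z) = y ⬝ᵥ ((cᵀ * a) *ᵥ z) := by
            rw [← Matrix.mulVec_mulVec, Matrix.dotProduct_mulVec y cᵀ, Matrix.vecMul_transpose]
          rw [h2, ← hs, ← Matrix.mulVec_mulVec, Matrix.dotProduct_mulVec y aᵀ, Matrix.vecMul_transpose, hy, zero_dotProduct]
        have h3 : a *ᵥ z = -Pi.single i ((c *ᵥ z) i) := eq_neg_of_add_eq_zero_left hz
        rw [h3, dotProduct_neg, dotProduct_single, neg_eq_zero] at h1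
        have h4 : (c *ᵥ z) i = 0 := (mul_eq_zero.1 h1).resolve_left hi'
        rw [h4, Pi.single_zero, neg_zero] at h3
        exact ⟨h3, h4⟩
      have hcard : (Finset.univ.filter fun z : Fin 3 → ZMod 3 => (a + single i i 1 * c) *ᵥ z = 0).card ≤ n := by
        have hlt : (Finset.univ.filter fun z : Fin 3 → ZMod 3 => (a + single i i 1 * c) *ᵥ z = 0).card <
            (Finset.univ.filter fun z : Fin 3 → ZMod 3 => a *ᵥ z = 0).card := by
          refine Finset.card_lt_card ⟨fun z hz => ?_, fun h => ?_⟩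
          · rw [Finset.mem_filter] at hz ⊢
            exact ⟨hz.1, (hsub z hz.2).1⟩
          · have h1 := h (Finset.mem_filter.2 ⟨Finset.mem_univ y, hy⟩)
            rw [Finset.mem_filter] at h1
            exact hi' (hsub y h1.2).2
        omega
      obtain ⟨P, hP, hPd⟩ := ih (a + single i i 1 * c) hcard (by
        rw [transpose_add, transpose_mul, transpose_single, Matrix.add_mul, Matrix.mul_add, hs, Matrix.mul_assoc])
        (fun x hx hcx => hr x (hsub x hx).1 hcx)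
      refine ⟨single i i 1 + P, by rw [transpose_add, transpose_single, hP], ?_⟩
      rw [Matrix.add_mul, ← add_assoc]
      exact hPd
    · exact ⟨0, transpose_zero, by rw [Matrix.zero_mul, add_zero]; exact hdet⟩

/-! ### Diagonal forms -/

/-- matrix from its code -/
def dec (n : ℕ) : M9 :=
  ⟨n % 3, n / 3 % 3, n / 9 % 3, n / 27 % 3, n / 81 % 3, n / 243 % 3, n / 729 % 3, n / 2187 % 3, n / 6561 % 3⟩

/-- diagonalising matrices -/
def tbD : List ℕ := [
  0, 2431, 2431, 6674, 6593, 6592, 6674, 6592, 6593, 3164, 977, 976, 7160, 7079, 7078, 6917, 6835, 6836, 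
  3164, 976, 977, 6917, 6836, 6835, 7160, 7078, 7079, 2223, 6591, 6591, 6671, 2449, 6592, 6670, 2440, 6593, 
  3164, 821, 820, 1114, 2985, 851, 1084, 2958, 881, 3164, 820, 821, 1088, 2955, 877, 1112, 2982, 853, 
  2223, 6591, 6591, 6670, 6593, 2440, 6671, 6592, 2449, 3164, 821, 820, 1112, 853, 2982, 1088, 877, 2955, 
  3164, 820, 821, 1084, 881, 2958, 1114, 851, 2985, 3060, 3060, 3060, 6692, 854, 878, 6683, 850, 880, 
  3182, 2960, 2983, 1124, 827, 6853, 1096, 7087, 826, 3173, 2956, 2987, 1097, 7097, 824, 1123, 823, 6845, 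
  873, 873, 873, 6689, 3067, 850, 6679, 3065, 854, 3182, 875, 7086, 1113, 995, 876, 6931, 2986, 826, 
  3173, 874, 7095, 6923, 2984, 824, 1110, 985, 879, 846, 846, 846, 6688, 880, 3065, 6680, 878, 3067, 
  3182, 6852, 847, 7165, 827, 2957, 1086, 849, 994, 3173, 6843, 848, 1083, 852, 986, 7175, 823, 2959, 
  3060, 3060, 3060, 6683, 880, 850, 6692, 878, 854, 3173, 2987, 2956, 1123, 6845, 823, 1097, 824, 7097, 
  3182, 2983, 2960, 1096, 826, 7087, 1124, 6853, 827, 846, 846, 846, 6680, 3067, 878, 6688, 3065, 880, 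
  3173, 848, 6843, 7175, 2959, 823, 1083, 986, 852, 3182, 847, 6852, 1086, 994, 849, 7165, 2957, 827, 
  873, 873, 873, 6679, 854, 3065, 6689, 850, 3067, 3173, 7095, 874, 1110, 879, 985, 6923, 824, 2984, 
  3182, 7086, 875, 6931, 826, 2986, 1113, 876, 995, 819, 975, 975, 1068, 825, 822, 1068, 822, 825, 
  3161, 2437, 976, 1122, 879, 876, 1095, 849, 852, 3160, 2434, 977, 1095, 852, 849, 1122, 876, 879, 
  819, 819, 819, 1059, 993, 822, 1056, 984, 825, 3161, 6609, 820, 1114, 3063, 6853, 1084, 3061, 7097, 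
  3160, 6600, 821, 1088, 3062, 7087, 1112, 3066, 6845, 819, 819, 819, 1056, 825, 984, 1059, 822, 993, 
  3161, 6609, 820, 7174, 853, 2957, 6932, 877, 2984, 3160, 6600, 821, 6922, 881, 2986, 7166, 851, 2959, 
  2979, 2979, 2979, 1070, 854, 7096, 1069, 850, 7088, 3179, 3068, 2956, 1124, 6611, 851, 6926, 877, 826, 
  3169, 3064, 2960, 6935, 881, 824, 1123, 6601, 853, 2385, 7077, 7077, 1061, 2980, 850, 1057, 2981, 854, 
  3179, 875, 874, 7157, 2455, 7078, 1085, 3061, 826, 3169, 874, 875, 1087, 3062, 824, 7156, 2443, 7079, 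
  846, 846, 846, 1058, 7088, 2981, 1060, 7096, 2980, 3179, 848, 6843, 1111, 6611, 2982, 1086, 849, 994, 
  3169, 847, 6852, 1083, 852, 986, 1115, 6601, 2985, 2952, 2952, 2952, 1069, 880, 6844, 1070, 878, 6854, 
  3170, 3068, 2983, 7169, 853, 823, 1097, 6610, 881, 3178, 3064, 2987, 1096, 6602, 877, 7178, 851, 827, 
  2304, 6834, 6834, 1060, 2954, 878, 1058, 2953, 880, 3170, 848, 847, 1115, 3063, 823, 6913, 2446, 6836, 
  3178, 847, 848, 6914, 2452, 6835, 1111, 3066, 827, 873, 873, 873, 1057, 6854, 2953, 1061, 6844, 2954, 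
  3170, 875, 7086, 1110, 879, 985, 1087, 6610, 2955, 3178, 874, 7095, 1085, 6602, 2958, 1113, 876, 995, 
  819, 975, 975, 1068, 825, 822, 1068, 822, 825, 3160, 977, 2434, 1122, 879, 876, 1095, 849, 852, 
  3161, 976, 2437, 1095, 852, 849, 1122, 876, 879, 819, 819, 819, 1059, 993, 822, 1056, 984, 825, 
  3160, 821, 6600, 7166, 2959, 851, 6922, 2986, 881, 3161, 820, 6609, 6932, 2984, 877, 7174, 2957, 853, 
  819, 819, 819, 1056, 825, 984, 1059, 822, 993, 3160, 821, 6600, 1112, 6845, 3066, 1088, 7087, 3062, 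
  3161, 820, 6609, 1084, 7097, 3061, 1114, 6853, 3063, 2952, 2952, 2952, 1070, 6854, 878, 1069, 6844, 880, 
  3178, 2987, 3064, 7178, 827, 851, 1096, 877, 6602, 3170, 2983, 3068, 1097, 881, 6610, 7169, 823, 853, 
  873, 873, 873, 1061, 2954, 6844, 1057, 2953, 6854, 3178, 7095, 874, 1113, 995, 876, 1085, 2958, 6602, 
  3170, 7086, 875, 1087, 2955, 6610, 1110, 985, 879, 2304, 6834, 6834, 1058, 880, 2953, 1060, 878, 2954, 
  3178, 848, 847, 1111, 827, 3066, 6914, 6835, 2452, 3170, 847, 848, 6913, 6836, 2446, 1115, 823, 3063, 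
  2979, 2979, 2979, 1069, 7088, 850, 1070, 7096, 854, 3169, 2960, 3064, 1123, 853, 6601, 6935, 824, 881, 
  3179, 2956, 3068, 6926, 826, 877, 1124, 851, 6611, 846, 846, 846, 1060, 2980, 7096, 1058, 2981, 7088, 
  3169, 6852, 847, 1115, 2985, 6601, 1083, 986, 852, 3179, 6843, 848, 1086, 994, 849, 1111, 2982, 6611, 
  2385, 7077, 7077, 1057, 854, 2981, 1061, 850, 2980, 3169, 875, 874, 7156, 7079, 2443, 1087, 824, 3062, 
  3179, 874, 875, 1085, 826, 3061, 7157, 7078, 2455]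

/-- the check -/
def ckD (S h : M9) : Bool :=
  h.det != 0 &&
    (let D := (h.tr.mul S).mul h
     D.b == 0 && D.c == 0 && D.d == 0 && D.f == 0 && D.g == 0 && D.h == 0 && D.a != 0 && (D.e != 0 || D.i == 0))

theorem ckD_all : ((List.range 3).all fun a => (List.range 3).all fun b => (List.range 3).all fun c =>
    (List.range 3).all fun d => (List.range 3).all fun e => (List.range 3).all fun f =>
      (a + b + c + d + e + f == 0) ||
        ckD (sy a b c d e f) (dec (tbD.getD (a + 3 * b + 9 * c + 27 * d + 81 * e + 243 * f) 0))) = true := by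
  decide +kernel

/-- a diagonal matrix -/
def dg (s₁ s₂ s₃ : ZMod 3) : Mat := !![s₁, 0, 0; 0, s₂, 0; 0, 0, s₃]

/-- symmetric matrices can be diagonalised -/
theorem exists_diag {S : Mat} (hS : Sᵀ = S) (h0 : S ≠ 0) : ∃ h h' : Mat, h * h' = 1 ∧ ∃ s₁ s₂ s₃ : ZMod 3,
    h'ᵀ * S * h' = dg s₁ s₂ s₃ ∧ s₁ ≠ 0 ∧ (s₂ = 0 → s₃ = 0) := by
  obtain ⟨a, b, c, d, e, f, ha, hb, hc, hd, he, hf, rfl⟩ := exists_sy hS
  have h3 := List.all_eq_true.1 (List.all_eq_true.1 (List.all_eq_true.1 (List.all_eq_true.1 (List.all_eq_true.1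
    (List.all_eq_true.1 ckD_all a (List.mem_range.2 ha)) b (List.mem_range.2 hb)) c (List.mem_range.2 hc)) d
    (List.mem_range.2 hd)) e (List.mem_range.2 he)) f (List.mem_range.2 hf)
  rw [Bool.or_eq_true] at h3
  rcases h3 with h3 | h3
  · exfalso
    rw [beq_iff_eq] at h3
    apply h0
    have : a = 0 ∧ b = 0 ∧ c = 0 ∧ d = 0 ∧ e = 0 ∧ f = 0 := by omega
    obtain ⟨rfl, rfl, rfl, rfl, rfl, rfl⟩ := this
    ext i j
    fin_cases i <;> fin_cases j <;> simp [toM, sy]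
  · generalize dec (tbD.getD (a + 3 * b + 9 * c + 27 * d + 81 * e + 243 * f) 0) = h at h3
    simp only [ckD, Bool.and_eq_true, bne_iff_ne, beq_iff_eq, Bool.or_eq_true] at h3
    obtain ⟨h4, ⟨⟨⟨⟨⟨⟨h5, h6⟩, h7⟩, h8⟩, h9⟩, h10⟩, h11⟩, h12⟩ := h3
    have hz : ∀ n : ℕ, n < 3 → ((n : ℕ) : ZMod 3) = 0 → n = 0 := by
      intro n hn h
      rw [ZMod.natCast_eq_zero_iff] at h
      exact Nat.eq_zero_of_dvd_of_lt h hn
    refine ⟨toM h.inv, toM h, mul_eq_one_comm.1 (mul_inv h4), (((h.tr.mul (sy a b c d e f)).mul h).a : ZMod 3),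
      (((h.tr.mul (sy a b c d e f)).mul h).e : ZMod 3), (((h.tr.mul (sy a b c d e f)).mul h).i : ZMod 3), ?_, ?_, ?_⟩
    · rw [← toM_tr, ← toM_mul, ← toM_mul, toM, h5, h6, h7, h8, h9, h10, Nat.cast_zero]
      rfl
    · intro h13
      exact h11 (hz _ (Nat.mod_lt _ (by norm_num)) h13)
    · intro h13
      have h14 := hz _ (Nat.mod_lt _ (by norm_num)) h13
      rcases h12 with h12 | h12
      · exact absurd h14 h12
      · rw [h12, Nat.cast_zero]

/-! ### The upper right block -/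

theorem sq_cases : ∀ s : ZMod 3, s ≠ 0 → s * s = 1 := by decide

theorem rk1_aux : ∀ s x y z w : ZMod 3, s ≠ 0 → w * w = 1 → y * w = 0 → x * z = 1 → z * y + (s * x + y) * z = 0 → False := by
  decide

theorem rk2_aux : ∀ s x y z t : ZMod 3, s ≠ 0 → z * z = 1 → y * z = 0 →
    (1 + 1) * x * s * x + (1 + 1) * y * t * y = s → False := by decide

theorem rk3_aux : ∀ s x y z : ZMod 3, s ≠ 0 → (1 + 1) * x * s * x + (1 + 1) * y = s →
    (1 + 1) * x * s * x + (1 + 1) * z = s → y + z = 0 → False := by decide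

theorem step_three {a : Mat} {s₁ s₂ s₃ : ZMod 3} (h1 : s₁ ≠ 0) (h23 : s₂ = 0 → s₃ = 0)
    (H : ∀ P : Mat, Pᵀ = P → (1 + P * dg s₁ s₂ s₃).det = 1 → (1 + P * dg s₁ s₂ s₃) * a * P * aᵀ = P) : False := by
  have e : ∀ (P : Mat), Pᵀ = P → (1 + P * dg s₁ s₂ s₃).det = 1 → ∀ i j : Fin 3,
      ((1 + P * dg s₁ s₂ s₃) * a * P * aᵀ) i j = P i j := fun P hP hd i j => by rw [H P hP hd]
  have sym : ∀ x y z u v w : ZMod 3, (!![x, u, v; u, y, w; v, w, z] : Mat)ᵀ = !![x, u, v; u, y, w; v, w, z] := by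
    intro x y z u v w
    ext i j
    fin_cases i <;> fin_cases j <;> rfl
  have q1 := sq_cases s₁ h1
  by_cases hs2 : s₂ = 0
  · -- rank 1
    have hs3 := h23 hs2
    subst hs2 hs3
    have e22 := e !![0, 0, 0; 0, 1, 0; 0, 0, 0] (sym 0 1 0 0 0 0) (by simp [dg, det_fin_three])
    have e33 := e !![0, 0, 0; 0, 0, 0; 0, 0, 1] (sym 0 0 1 0 0 0) (by simp [dg, det_fin_three])
    have e12 := e !![0, 1, 0; 1, 0, 0; 0, 0, 0] (sym 0 0 0 1 0 0) (by simp [dg, det_fin_three])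
    have e13 := e !![0, 0, 1; 0, 0, 0; 1, 0, 0] (sym 0 0 0 0 1 0) (by simp [dg, det_fin_three])
    have a11 := e22 1 1
    have a21 := e22 2 2
    have a02 := e33 0 0
    have b21 := e12 2 1
    have c02 := e13 0 2
    have c22 := e13 2 2
    simp [dg, Matrix.mul_apply, Fin.sum_univ_three, Matrix.one_apply] at a11 a21 a02 b21 c02 c22
    rw [a02] at c02 c22
    rw [a21] at b21
    rw [zero_mul, zero_add] at b21 c02
    rw [mul_zero, zero_add] at c22
    exact rk1_aux _ _ _ _ _ h1 a11 b21 c02 c22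
  · have q2 := sq_cases s₂ hs2
    by_cases hs3 : s₃ = 0
    · subst hs3
      have hdet : (1 + !![s₁, 0, 0; 0, s₂, 0; 0, 0, 0] * dg s₁ s₂ 0 : Mat).det = 1 := by
        simp [dg, det_fin_three, q1, q2]
        decide
      have e33 := e !![0, 0, 0; 0, 0, 0; 0, 0, 1] (sym 0 0 1 0 0 0) (by simp [dg, det_fin_three])
      have e23 := e !![0, 0, 0; 0, 0, 1; 0, 1, 0] (sym 0 0 0 0 0 1) (by simp [dg, det_fin_three])
      have ed := e !![s₁, 0, 0; 0, s₂, 0; 0, 0, 0] (sym s₁ s₂ 0 0 0 0) hdet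
      have a02 := e33 0 0
      have a22 := e33 2 2
      have c02 := e23 0 2
      have c22 := ed 0 0
      simp [dg, Matrix.mul_apply, Fin.sum_univ_three, Matrix.one_apply] at a02 a22 c02 c22
      rw [a02, zero_mul, zero_add] at c02
      rw [q1] at c22
      exact rk2_aux _ _ _ _ _ h1 a22 c02 c22
    · have q3 := sq_cases s₃ hs3
      have hd1 : (1 + !![s₁, 0, 0; 0, s₂, 0; 0, 0, 0] * dg s₁ s₂ s₃ : Mat).det = 1 := by
        simp [dg, det_fin_three, q1, q2]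
        decide
      have hd2 : (1 + !![s₁, 0, 0; 0, 0, 0; 0, 0, s₃] * dg s₁ s₂ s₃ : Mat).det = 1 := by
        simp [dg, det_fin_three, q1, q3]
        decide
      have hd3 : (1 + !![0, 0, 0; 0, s₂, 0; 0, 0, s₃] * dg s₁ s₂ s₃ : Mat).det = 1 := by
        simp [dg, det_fin_three, q2, q3]
        decide
      have f1 := e _ (sym s₁ s₂ 0 0 0 0) hd1 0 0
      have f2 := e _ (sym s₁ 0 s₃ 0 0 0) hd2 0 0
      have f3 := e _ (sym 0 s₂ s₃ 0 0 0) hd3 0 0
      simp [dg, Matrix.mul_apply, Fin.sum_univ_three, Matrix.one_apply] at f1 f2 f3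
      rw [q1] at f1 f2
      exact rk3_aux s₁ (a 0 0) (a 0 1 * s₂ * a 0 1) (a 0 2 * s₃ * a 0 2) h1 (by linear_combination f1)
        (by linear_combination f2) f3

theorem det_ne_cases : ∀ x : ZMod 3, x ≠ 0 → x ≠ 1 → x = -1 := by decide

/-- Step 2b: lower left block in normal form, upper left block of determinant 1. -/
theorem step_two {l : M6} (hl : IsSp l) (h1 : l ≠ 1) (h2 : l ≠ -1) :
    ∃ (a b d : Mat) (s₁ s₂ s₃ : ZMod 3), Cj l (fromBlocks a b (dg s₁ s₂ s₃ * a) d) ∧ a.det = 1 ∧ s₁ ≠ 0 ∧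
      (s₂ = 0 → s₃ = 0) := by
  obtain ⟨a, b, c, d, hc, hc0⟩ := step_one hl h1 h2
  have hsp := isSp_iff.1 (hc.isSp hl)
  obtain ⟨P, hP, hdet⟩ := exists_inv c _ a le_rfl hsp.1 (by
    intro x hax hcx
    -- M *ᵥ (x, 0) = 0
    have h3 : (aᵀ * d - cᵀ * b)ᵀ *ᵥ x = x := by rw [hsp.2.1, transpose_one, one_mulVec]
    rw [← h3, transpose_sub, transpose_mul, transpose_mul, transpose_transpose, transpose_transpose, sub_mulVec,
      ← mulVec_mulVec, ← mulVec_mulVec, hax, hcx, mulVec_zero, mulVec_zero, sub_zero])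
  have hc' := hc.trans (cj_uu (a := a) (b := b) (c := c) (d := d) hP)
  generalize b + P * d - (a + P * c) * P = b' at hc'
  generalize d - c * P = d' at hc'
  generalize a + P * c = a' at hc' hdet
  have hsp' := isSp_iff.1 (hc'.isSp hl)
  have hu : IsUnit a'.det := isUnit_iff_ne_zero.2 hdet
  -- the symmetric matrix c a⁻¹
  have hS : (c * a'⁻¹)ᵀ = c * a'⁻¹ := by
    have h4 : c * a'⁻¹ = (a'⁻¹)ᵀ * (a'ᵀ * c) * a'⁻¹ := by
      rw [← Matrix.mul_assoc, ← transpose_mul, Matrix.mul_nonsing_inv _ hu, transpose_one, Matrix.one_mul]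
    have h5 : (c * a'⁻¹)ᵀ = (a'⁻¹)ᵀ * (cᵀ * a') * a'⁻¹ := by
      rw [transpose_mul, Matrix.mul_assoc, Matrix.mul_assoc, Matrix.mul_nonsing_inv _ hu, Matrix.mul_one]
    rw [h5, ← hsp'.1, ← h4]
  have hS0 : c * a'⁻¹ ≠ 0 := by
    intro h
    apply hc0
    have : c = c * a'⁻¹ * a' := by rw [Matrix.mul_assoc, Matrix.nonsing_inv_mul _ hu, Matrix.mul_one]
    rw [this, h, Matrix.zero_mul]
  obtain ⟨h, h', hh, s₁, s₂, s₃, hD, hs1, hs23⟩ := exists_diag hS hS0
  have hc'' := hc'.trans (cj_dd (a := a') (b := b') (c := c) (d := d') hh)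
  have h6 : h'ᵀ * c * h' = dg s₁ s₂ s₃ * (h * a' * h') := by
    rw [← hD]
    have : c = c * a'⁻¹ * a' := by rw [Matrix.mul_assoc, Matrix.nonsing_inv_mul _ hu, Matrix.mul_one]
    conv_lhs => rw [this]
    have h7 : h' * h = 1 := mul_eq_one_comm.1 hh
    calc h'ᵀ * (c * a'⁻¹ * a') * h' = h'ᵀ * (c * a'⁻¹) * 1 * a' * h' := by
          rw [Matrix.mul_one]; simp only [Matrix.mul_assoc]
      _ = h'ᵀ * (c * a'⁻¹) * h' * (h * a' * h') := by rw [← h7]; simp only [Matrix.mul_assoc]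
  rw [h6] at hc''
  have hdet' : (h * a' * h').det ≠ 0 := by
    rw [det_mul, det_mul]
    have h8 : h.det * h'.det = 1 := by rw [← det_mul, hh, det_one]
    intro h9
    apply hdet
    calc a'.det = (h.det * h'.det) * a'.det := by rw [h8, one_mul]
      _ = h.det * a'.det * h'.det := by ring
      _ = 0 := h9
  generalize h * a' * h' = a at hc'' hdet'
  generalize h * b' * hᵀ = b at hc''
  generalize h'ᵀ * d' * hᵀ = d at hc''
  by_cases hd1 : a.det = 1
  · exact ⟨a, b, d, s₁, s₂, s₃, hc'', hd1, hs1, hs23⟩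
  · have hdm := det_ne_cases _ hdet' hd1
    have q1 := sq_cases s₁ hs1
    have hsy : (dg s₁ 0 0)ᵀ = dg s₁ 0 0 := by
      ext i j
      fin_cases i <;> fin_cases j <;> rfl
    have hc3 := hc''.trans (cj_uu (a := a) (b := b) (c := dg s₁ s₂ s₃ * a) (d := d) hsy)
    have h10 : a + dg s₁ 0 0 * (dg s₁ s₂ s₃ * a) = dg (-1) 1 1 * a := by
      rw [← Matrix.mul_assoc, ← Matrix.one_mul a, ← Matrix.mul_assoc, ← Matrix.mul_assoc, ← Matrix.add_mul, Matrix.mul_one]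
      congr 1
      ext i j
      fin_cases i <;> fin_cases j <;> simp [dg, q1, Matrix.mul_apply, Matrix.one_apply]
      decide
    have h11 : dg s₁ s₂ s₃ * a = dg (-s₁) s₂ s₃ * (dg (-1) 1 1 * a) := by
      rw [← Matrix.mul_assoc]
      congr 1
      ext i j
      fin_cases i <;> fin_cases j <;> simp [dg, Matrix.mul_apply, Fin.sum_univ_three]
    rw [h10, h11] at hc3
    refine ⟨_, _, _, -s₁, s₂, s₃, hc3, ?_, neg_ne_zero.2 hs1, hs23⟩
    rw [det_mul, hdm]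
    simp [dg, det_fin_three]

theorem dg_ne_zero {s₁ s₂ s₃ : ZMod 3} (h : s₁ ≠ 0) : dg s₁ s₂ s₃ ≠ 0 := by
  intro h0
  apply h
  have := congrFun (congrFun h0 0) 0
  simpa [dg] using this

/-- Step 3: all of it. -/
theorem step_all {l : M6} (hl : IsSp l) (h1 : l ≠ 1) (h2 : l ≠ -1) :
    ∃ a b c d : Mat, Cj l (fromBlocks a b c d) ∧ a.det = 1 ∧ b ≠ 0 ∧ c ≠ 0 := by
  obtain ⟨a, b, d, s₁, s₂, s₃, hc, hd, hs1, hs23⟩ := step_two hl h1 h2
  have hu : IsUnit a.det := by rw [hd]; exact isUnit_one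
  have hc0 : dg s₁ s₂ s₃ * a ≠ 0 := by
    intro h
    apply dg_ne_zero (s₂ := s₂) (s₃ := s₃) hs1
    calc dg s₁ s₂ s₃ = dg s₁ s₂ s₃ * a * a⁻¹ := by
          rw [Matrix.mul_assoc, Matrix.mul_nonsing_inv _ hu, Matrix.mul_one]
      _ = 0 := by rw [h, Matrix.zero_mul]
  by_cases hb : b = 0
  · subst hb
    have hsp := (isSp_iff.1 (hc.isSp hl)).2.1
    rw [Matrix.mul_zero, sub_zero] at hsp
    have hsp' := mul_eq_one_comm.1 hsp
    by_contra hno
    refine step_three (a := a) hs1 hs23 fun P hP hdet => ?_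
    by_contra hne
    apply hno
    refine ⟨_, _, _, _, hc.trans (cj_uu hP), ?_, ?_, hc0⟩
    · rw [← Matrix.mul_assoc]
      have : a + P * dg s₁ s₂ s₃ * a = (1 + P * dg s₁ s₂ s₃) * a := by rw [Matrix.add_mul, Matrix.one_mul]
      rw [this, det_mul, hdet, hd, one_mul]
    · intro h0
      apply hne
      rw [zero_add, sub_eq_zero] at h0
      calc (1 + P * dg s₁ s₂ s₃) * a * P * aᵀ = (a + P * (dg s₁ s₂ s₃ * a)) * P * aᵀ := by
            rw [Matrix.add_mul, Matrix.one_mul, Matrix.mul_assoc P]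
        _ = P * (d * aᵀ) := by rw [← h0, Matrix.mul_assoc]
        _ = P := by rw [hsp', Matrix.mul_one]
  · exact ⟨_, _, _, _, hc, hd, hb, hc0⟩

/-- a Levi element moved by `v(X)` -/
theorem vdv {c X : Mat} : vv X * dd c * vv (-X) = fromBlocks c 0 (X * c - (c⁻¹)ᵀ * X) (c⁻¹)ᵀ := by
  rw [vv, dd, vv, fromBlocks_multiply, fromBlocks_multiply]
  simp only [Matrix.one_mul, Matrix.mul_one, Matrix.mul_zero, Matrix.zero_mul, add_zero, zero_add, Matrix.mul_neg,
    sub_eq_add_neg, neg_zero]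

/-- a Levi element moved by `u(Y)` -/
theorem udu {c Y : Mat} : uu Y * dd c * uu (-Y) = fromBlocks c (Y * (c⁻¹)ᵀ - c * Y) 0 (c⁻¹)ᵀ := by
  rw [uu, dd, uu, fromBlocks_multiply, fromBlocks_multiply]
  simp only [Matrix.one_mul, Matrix.mul_one, Matrix.mul_zero, Matrix.zero_mul, add_zero, zero_add, Matrix.mul_neg,
    neg_zero]
  rw [neg_add_eq_sub]

/-- triangular decomposition -/
theorem tri {a b c d : Mat} (hsp : IsSp (fromBlocks a b c d)) (hd : a.det = 1) :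
    ∃ S T : Mat, Sᵀ = S ∧ Tᵀ = T ∧ b = a * T ∧ c = S * a ∧ d = (a⁻¹)ᵀ + S * a * T := by
  obtain ⟨hs1, hs2, hs3⟩ := isSp_iff.1 hsp
  have hu : IsUnit a.det := by rw [hd]; exact isUnit_one
  have haa := Matrix.mul_nonsing_inv a hu
  have haa' := Matrix.nonsing_inv_mul a hu
  have hta : (a⁻¹)ᵀ * aᵀ = 1 := by rw [← transpose_mul, haa, transpose_one]
  have hS : (c * a⁻¹)ᵀ = c * a⁻¹ := by
    have h4 : c * a⁻¹ = (a⁻¹)ᵀ * (aᵀ * c) * a⁻¹ := by rw [← Matrix.mul_assoc, hta, Matrix.one_mul]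
    have h5 : (c * a⁻¹)ᵀ = (a⁻¹)ᵀ * (cᵀ * a) * a⁻¹ := by
      rw [transpose_mul, Matrix.mul_assoc, Matrix.mul_assoc, haa, Matrix.mul_one]
    rw [h5, ← hs1, ← h4]
  have hdd : d = (a⁻¹)ᵀ + c * a⁻¹ * b := by
    have h4 : aᵀ * d = 1 + cᵀ * b := sub_eq_iff_eq_add.1 hs2
    calc d = (a⁻¹)ᵀ * (aᵀ * d) := by rw [← Matrix.mul_assoc, hta, Matrix.one_mul]
      _ = (a⁻¹)ᵀ + (c * a⁻¹)ᵀ * b := by rw [h4, Matrix.mul_add, Matrix.mul_one, transpose_mul, Matrix.mul_assoc]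
      _ = (a⁻¹)ᵀ + c * a⁻¹ * b := by rw [hS]
  have hT : (a⁻¹ * b)ᵀ = a⁻¹ * b := by
    have h4 : bᵀ * d = bᵀ * (a⁻¹)ᵀ + bᵀ * (c * a⁻¹) * b := by rw [hdd, Matrix.mul_add]; simp only [Matrix.mul_assoc]
    have h5 : dᵀ * b = a⁻¹ * b + bᵀ * (c * a⁻¹) * b := by
      rw [hdd, transpose_add, transpose_transpose, Matrix.add_mul, transpose_mul, hS]
    rw [h4, h5] at hs3
    rw [transpose_mul]
    exact add_right_cancel hs3
  refine ⟨c * a⁻¹, a⁻¹ * b, hS, hT, ?_, ?_, ?_⟩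
  · rw [← Matrix.mul_assoc, haa, Matrix.one_mul]
  · rw [Matrix.mul_assoc, haa', Matrix.mul_one]
  · rw [hdd, Matrix.mul_assoc _ a, ← Matrix.mul_assoc a, haa, Matrix.one_mul]

/-- assembling -/
theorem asm {a c₁ c₂ S T X Y : Mat} (h1 : c₁.det = 1) (h2 : c₂.det = 1) (hcc : c₁ * c₂ = a)
    (e1 : c₁ᵀ * S * c₁ = c₁ᵀ * X * c₁ - X) (e2 : c₂ * T * c₂ᵀ = Y - c₂ * Y * c₂ᵀ) :
    fromBlocks a (a * T) (S * a) ((a⁻¹)ᵀ + S * a * T) = (vv X * dd c₁ * vv (-X)) * (uu Y * dd c₂ * uu (-Y)) := by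
  have hu1 : IsUnit c₁.det := by rw [h1]; exact isUnit_one
  have hu2 : IsUnit c₂.det := by rw [h2]; exact isUnit_one
  have k1 : (c₁⁻¹)ᵀ * c₁ᵀ = 1 := by rw [← transpose_mul, Matrix.mul_nonsing_inv _ hu1, transpose_one]
  have k2 : c₂ᵀ * (c₂⁻¹)ᵀ = 1 := by rw [← transpose_mul, Matrix.nonsing_inv_mul _ hu2, transpose_one]
  have e1' : X * c₁ - (c₁⁻¹)ᵀ * X = S * c₁ := by
    calc X * c₁ - (c₁⁻¹)ᵀ * X = (c₁⁻¹)ᵀ * (c₁ᵀ * X * c₁ - X) := by
          rw [Matrix.mul_sub, ← Matrix.mul_assoc, ← Matrix.mul_assoc, k1, Matrix.one_mul]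
      _ = S * c₁ := by rw [← e1, ← Matrix.mul_assoc, ← Matrix.mul_assoc, k1, Matrix.one_mul]
  have e2' : Y * (c₂⁻¹)ᵀ - c₂ * Y = c₂ * T := by
    calc Y * (c₂⁻¹)ᵀ - c₂ * Y = (Y - c₂ * Y * c₂ᵀ) * (c₂⁻¹)ᵀ := by
          rw [Matrix.sub_mul, Matrix.mul_assoc _ c₂ᵀ, k2, Matrix.mul_one]
      _ = c₂ * T := by rw [← e2, Matrix.mul_assoc _ c₂ᵀ, k2, Matrix.mul_one]
  have hinv : (c₁⁻¹)ᵀ * (c₂⁻¹)ᵀ = (a⁻¹)ᵀ := by rw [← transpose_mul, ← Matrix.mul_inv_rev, hcc]
  have b1 : c₁ * (c₂ * T) = a * T := by rw [← Matrix.mul_assoc, hcc]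
  have b2 : S * c₁ * c₂ = S * a := by rw [Matrix.mul_assoc, hcc]
  have b3 : S * c₁ * (c₂ * T) = S * a * T := by rw [← Matrix.mul_assoc, b2]
  rw [vdv, udu, e1', e2', fromBlocks_multiply]
  simp only [Matrix.mul_zero, Matrix.zero_mul, add_zero, b1, b2, b3, hcc, hinv]
  rw [add_comm]

/-- **Elements of `Sp_6(3)`** other than `±1` are, up to conjugacy, products of an element of order 13 in a Levi subgroup
opposite to `u(T)`'s and one in a Levi subgroup opposite to `v(S)`'s. -/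
theorem sp_frame {l : M6} (hl : IsSp l) (h1 : l ≠ 1) (h2 : l ≠ -1) :
    ∃ g g' : M6, IsSp g ∧ g * g' = 1 ∧ ∃ c₁ c₂ X Y : Mat, Fpf c₁ ∧ Fpf c₂ ∧ Xᵀ = X ∧ Yᵀ = Y ∧ X ≠ 0 ∧ Y ≠ 0 ∧ X * Y ≠ 1 ∧
      g * l * g' = (vv X * dd c₁ * vv (-X)) * (uu Y * dd c₂ * uu (-Y)) := by
  obtain ⟨a, b, c, d, ⟨g, g', hg, hgg, he⟩, hd, hb, hc⟩ := step_all hl h1 h2
  obtain ⟨S, T, hS, hT, hbT, hcS, hdd⟩ := tri (Cj.isSp ⟨g, g', hg, hgg, he⟩ hl) hd
  have hS0 : S ≠ 0 := by
    intro h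
    apply hc
    rw [hcS, h, Matrix.zero_mul]
  have hT0 : T ≠ 0 := by
    intro h
    apply hb
    rw [hbT, h, Matrix.mul_zero]
  obtain ⟨c₁, c₂, X, Y, hcc, hf1, hf2, hX, hY, hX0, hY0, hXY, e1, e2⟩ := exists_pair hd hS hT hS0 hT0
  refine ⟨g, g', hg, hgg, c₁, c₂, X, Y, hf1, hf2, hX, hY, hX0, hY0, hXY, ?_⟩
  rw [he, hbT, hcS, hdd]
  exact asm hf1.1 hf2.1 hcc e1 e2

end Cfsg.Agent.H267.Pw
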