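import Cfsg.Agent.H267.Pw.SpDef

/-!
# Pairs of elements of order 13 in `SL_3(3)`: table, part B (helper267; S2465)
-/

set_option autoImplicit false
set_option maxRecDepth 100000

namespace Cfsg.Agent.H267.Pw

open M9

/-- data -/
def dt8 : Dt := ⟨⟨2, 2, 1, 1, 2, 2, 1, 1, 1⟩, ⟨2, 2, 2, 1, 0, 0, 0, 2, 0⟩, ⟨0, 2, 2, 1, 1, 0, 2, 0, 2⟩, ⟨0, 1, 0, 0, 0, 2, 2, 2, 1⟩,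
  ⟨0, 2, 2, 0, 0, 1, 2, 0, 0⟩, ⟨0, 2, 1, 2, 0, 0, 1, 0, 2⟩, ⟨0, 0, 2, 2, 2, 0, 0, 1, 0⟩, ⟨0, 2, 0, 2, 2, 2, 0, 2, 2⟩,
  [[0, 1, 0, 0, 2, 2], [0, 0, 0, 0, 0, 2], [0, 1, 0, 0, 1, 1], [2, 1, 0, 1, 0, 0], [2, 0, 2, 0, 1, 1], [2, 1, 1, 0, 2, 2]]⟩

theorem ck8 : dt8.ck (bl false false 1 2 2) = true := by decide +kernel

/-- data -/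
def dt9 : Dt := ⟨⟨1, 2, 0, 0, 2, 2, 1, 2, 2⟩, ⟨2, 0, 1, 2, 1, 1, 0, 2, 2⟩, ⟨0, 2, 1, 2, 2, 1, 1, 0, 2⟩, ⟨0, 2, 2, 2, 1, 0, 1, 2, 2⟩,
  ⟨2, 2, 2, 2, 1, 2, 1, 1, 2⟩, ⟨1, 0, 2, 2, 2, 0, 0, 2, 1⟩, ⟨0, 1, 2, 1, 2, 0, 1, 0, 1⟩, ⟨2, 1, 2, 1, 1, 1, 1, 1, 2⟩,
  [[1, 2, 2, 0, 1, 2], [0, 0, 1, 0, 2, 1], [0, 0, 2, 1, 0, 1], [0, 0, 0, 2, 2, 1], [0, 0, 0, 1, 2, 0], [0, 2, 2, 0, 2, 2]]⟩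

theorem ck9 : dt9.ck (bl false true 2 0 1) = true := by decide +kernel

/-- data -/
def dt10 : Dt := ⟨⟨2, 2, 0, 1, 2, 2, 1, 1, 2⟩, ⟨2, 0, 1, 1, 1, 2, 0, 1, 2⟩, ⟨2, 2, 1, 0, 1, 2, 2, 0, 2⟩, ⟨0, 1, 2, 1, 1, 0, 1, 1, 2⟩,
  ⟨0, 2, 1, 0, 1, 1, 1, 2, 1⟩, ⟨0, 1, 1, 2, 1, 0, 2, 0, 0⟩, ⟨2, 0, 1, 1, 2, 0, 2, 2, 0⟩, ⟨0, 0, 2, 0, 1, 2, 1, 2, 1⟩,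
  [[2, 1, 2, 1, 0, 1], [2, 2, 0, 0, 2, 1], [2, 0, 1, 1, 2, 1], [2, 2, 1, 1, 1, 2], [0, 2, 1, 0, 1, 1], [1, 0, 1, 0, 1, 1]]⟩

theorem ck10 : dt10.ck (bl false true 2 1 1) = true := by decide +kernel

/-- data -/
def dt11 : Dt := ⟨⟨1, 0, 2, 1, 1, 0, 0, 2, 0⟩, ⟨1, 2, 1, 0, 0, 2, 1, 0, 1⟩, ⟨0, 1, 1, 0, 0, 2, 2, 1, 1⟩, ⟨0, 1, 1, 2, 0, 1, 0, 2, 0⟩,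
  ⟨1, 2, 1, 1, 0, 0, 2, 0, 1⟩, ⟨1, 2, 0, 2, 2, 1, 1, 2, 1⟩, ⟨0, 1, 0, 2, 2, 1, 0, 1, 1⟩, ⟨0, 1, 2, 2, 1, 2, 2, 0, 1⟩,
  [[1, 1, 0, 0, 2, 2], [2, 1, 0, 2, 2, 2], [1, 2, 1, 1, 2, 1], [0, 1, 0, 0, 2, 0], [2, 0, 1, 2, 1, 0], [0, 0, 2, 2, 0, 1]]⟩

theorem ck11 : dt11.ck (bl false true 2 2 1) = true := by decide +kernel

/-- data -/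
def dt12 : Dt := ⟨⟨0, 2, 1, 1, 2, 1, 1, 0, 1⟩, ⟨1, 2, 0, 2, 0, 2, 2, 1, 2⟩, ⟨2, 1, 0, 0, 2, 1, 1, 2, 1⟩, ⟨1, 2, 1, 0, 2, 1, 2, 0, 2⟩,
  ⟨1, 2, 0, 1, 1, 2, 2, 2, 0⟩, ⟨0, 2, 2, 0, 1, 2, 2, 0, 1⟩, ⟨2, 0, 1, 1, 0, 1, 0, 2, 2⟩, ⟨1, 1, 2, 1, 2, 0, 1, 1, 0⟩,
  [[2, 2, 0, 2, 1, 0], [1, 0, 1, 2, 0, 2], [0, 2, 2, 1, 0, 2], [2, 0, 0, 1, 0, 2], [0, 2, 2, 2, 1, 1], [0, 1, 1, 1, 2, 0]]⟩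

theorem ck12 : dt12.ck (bl false true 1 0 2) = true := by decide +kernel

/-- data -/
def dt13 : Dt := ⟨⟨1, 2, 0, 2, 0, 2, 2, 1, 2⟩, ⟨2, 0, 2, 2, 2, 2, 0, 2, 1⟩, ⟨1, 2, 1, 0, 2, 1, 2, 0, 2⟩, ⟨1, 1, 2, 1, 2, 0, 1, 2, 1⟩,
  ⟨0, 2, 1, 0, 0, 2, 1, 2, 2⟩, ⟨1, 0, 2, 2, 1, 0, 2, 2, 0⟩, ⟨2, 1, 1, 2, 2, 0, 0, 2, 0⟩, ⟨0, 1, 1, 0, 2, 1, 2, 1, 1⟩,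
  [[1, 1, 0, 1, 1, 1], [2, 1, 2, 1, 2, 1], [2, 0, 1, 1, 1, 0], [2, 1, 0, 1, 2, 2], [1, 2, 2, 0, 1, 0], [0, 2, 2, 0, 0, 1]]⟩

theorem ck13 : dt13.ck (bl false true 1 1 2) = true := by decide +kernel

/-- data -/
def dt14 : Dt := ⟨⟨2, 1, 0, 0, 0, 2, 1, 1, 0⟩, ⟨0, 1, 1, 0, 2, 1, 2, 1, 0⟩, ⟨1, 0, 2, 2, 0, 2, 0, 2, 0⟩, ⟨2, 1, 2, 2, 1, 0, 2, 2, 0⟩,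
  ⟨2, 2, 0, 0, 1, 2, 1, 1, 2⟩, ⟨2, 1, 2, 1, 1, 1, 0, 2, 1⟩, ⟨0, 2, 1, 2, 1, 2, 2, 0, 2⟩, ⟨2, 0, 2, 2, 2, 0, 2, 2, 1⟩,
  [[0, 2, 0, 0, 0, 0], [0, 1, 0, 2, 0, 1], [2, 1, 2, 2, 0, 1], [2, 0, 2, 1, 1, 2], [0, 2, 1, 1, 1, 2], [1, 2, 2, 1, 0, 0]]⟩

theorem ck14 : dt14.ck (bl false true 1 2 2) = true := by decide +kernel

/-- data -/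
def dt15 : Dt := ⟨⟨1, 2, 0, 2, 1, 1, 0, 2, 2⟩, ⟨0, 2, 2, 1, 2, 2, 2, 0, 1⟩, ⟨0, 2, 2, 2, 2, 2, 1, 1, 0⟩, ⟨2, 1, 0, 0, 2, 2, 2, 1, 1⟩,
  ⟨2, 2, 1, 1, 2, 2, 0, 1, 2⟩, ⟨1, 2, 0, 2, 0, 1, 2, 2, 1⟩, ⟨2, 0, 2, 1, 1, 0, 1, 1, 2⟩, ⟨1, 1, 2, 0, 1, 2, 1, 2, 2⟩,
  [[2, 2, 2, 1, 0, 2], [0, 2, 1, 2, 1, 2], [1, 0, 2, 0, 0, 0], [0, 2, 2, 2, 2, 1], [0, 0, 0, 2, 1, 1], [1, 2, 1, 2, 2, 2]]⟩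

theorem ck15 : dt15.ck (bl true false 2 1 0) = true := by decide +kernel

end Cfsg.Agent.H267.Pw
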