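import Cfsg.Agent.H267.Pw.SpDef

/-!
# Pairs of elements of order 13 in `SL_3(3)`: table, part C (helper267; S2465)
-/

set_option autoImplicit false
set_option maxRecDepth 100000

namespace Cfsg.Agent.H267.Pw

open M9

/-- data -/
def dt16 : Dt := ⟨⟨1, 2, 0, 0, 2, 1, 1, 2, 2⟩, ⟨2, 2, 1, 1, 2, 1, 1, 2, 0⟩, ⟨2, 2, 2, 1, 2, 2, 1, 0, 2⟩, ⟨1, 2, 0, 1, 2, 2, 0, 1, 2⟩,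
  ⟨0, 1, 1, 0, 2, 1, 2, 1, 1⟩, ⟨1, 2, 0, 2, 0, 2, 2, 0, 1⟩, ⟨1, 0, 2, 2, 1, 0, 2, 2, 0⟩, ⟨0, 1, 1, 2, 1, 1, 0, 1, 2⟩,
  [[1, 2, 1, 1, 0, 2], [2, 2, 0, 0, 1, 1], [1, 0, 2, 1, 0, 2], [1, 1, 1, 0, 2, 0], [1, 2, 1, 0, 2, 1], [0, 0, 2, 0, 1, 2]]⟩

theorem ck16 : dt16.ck (bl true false 1 2 0) = true := by decide +kernel

/-- data -/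
def dt17 : Dt := ⟨⟨2, 1, 2, 1, 0, 0, 2, 2, 0⟩, ⟨0, 0, 1, 0, 2, 1, 1, 2, 0⟩, ⟨0, 1, 0, 0, 2, 2, 2, 1, 2⟩, ⟨1, 2, 1, 1, 2, 0, 1, 0, 0⟩,
  ⟨2, 1, 2, 2, 2, 2, 0, 1, 2⟩, ⟨1, 1, 1, 1, 0, 1, 1, 2, 0⟩, ⟨2, 0, 1, 2, 1, 0, 2, 1, 2⟩, ⟨1, 2, 1, 1, 2, 0, 2, 2, 2⟩,
  [[1, 1, 1, 1, 1, 0], [2, 1, 2, 1, 2, 0], [2, 2, 2, 0, 1, 0], [2, 2, 2, 1, 2, 0], [2, 0, 1, 1, 2, 0], [0, 1, 0, 1, 0, 1]]⟩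

theorem ck17 : dt17.ck (bl true false 2 1 1) = true := by decide +kernel

/-- data -/
def dt18 : Dt := ⟨⟨1, 1, 2, 1, 1, 0, 1, 0, 0⟩, ⟨0, 1, 1, 0, 2, 1, 2, 0, 2⟩, ⟨0, 0, 1, 0, 1, 2, 2, 1, 0⟩, ⟨1, 1, 2, 2, 1, 0, 2, 2, 0⟩,
  ⟨2, 2, 1, 1, 0, 2, 1, 1, 0⟩, ⟨1, 1, 0, 2, 0, 1, 1, 1, 1⟩, ⟨1, 1, 1, 2, 2, 0, 1, 0, 1⟩, ⟨2, 2, 1, 2, 1, 2, 2, 0, 1⟩,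
  [[1, 2, 1, 0, 1, 0], [2, 1, 2, 0, 1, 1], [0, 1, 1, 2, 1, 1], [0, 1, 2, 1, 0, 1], [1, 2, 1, 0, 0, 0], [2, 0, 2, 1, 0, 0]]⟩

theorem ck18 : dt18.ck (bl true false 1 2 1) = true := by decide +kernel

/-- data -/
def dt19 : Dt := ⟨⟨2, 2, 0, 0, 1, 2, 1, 0, 0⟩, ⟨0, 1, 2, 1, 2, 1, 1, 2, 0⟩, ⟨0, 0, 1, 2, 0, 2, 2, 2, 2⟩, ⟨1, 1, 0, 1, 1, 2, 0, 1, 2⟩,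
  ⟨1, 1, 0, 2, 2, 2, 1, 2, 0⟩, ⟨1, 2, 1, 1, 1, 2, 1, 0, 2⟩, ⟨2, 0, 2, 2, 0, 1, 2, 2, 0⟩, ⟨2, 2, 0, 0, 1, 2, 2, 2, 2⟩,
  [[2, 2, 1, 0, 2, 1], [2, 2, 0, 0, 0, 0], [0, 1, 0, 2, 1, 0], [2, 1, 1, 1, 1, 2], [0, 2, 2, 1, 2, 1], [2, 1, 1, 0, 1, 0]]⟩

theorem ck19 : dt19.ck (bl true false 2 1 2) = true := by decide +kernel

/-- data -/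
def dt20 : Dt := ⟨⟨2, 2, 2, 1, 0, 0, 2, 0, 1⟩, ⟨0, 0, 2, 2, 2, 0, 0, 1, 1⟩, ⟨0, 1, 0, 2, 1, 2, 0, 1, 1⟩, ⟨2, 2, 2, 1, 0, 1, 2, 0, 0⟩,
  ⟨2, 1, 0, 0, 2, 2, 1, 2, 1⟩, ⟨1, 2, 2, 2, 2, 2, 1, 1, 2⟩, ⟨1, 2, 2, 2, 2, 2, 1, 0, 1⟩, ⟨2, 1, 0, 1, 0, 2, 0, 1, 1⟩,
  [[0, 1, 0, 0, 0, 2], [2, 2, 1, 0, 1, 1], [0, 2, 1, 1, 1, 1], [2, 1, 1, 0, 1, 1], [0, 1, 2, 0, 0, 0], [1, 1, 0, 2, 2, 2]]⟩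

theorem ck20 : dt20.ck (bl true false 1 2 2) = true := by decide +kernel

/-- data -/
def dt21 : Dt := ⟨⟨0, 2, 0, 1, 2, 1, 0, 1, 1⟩, ⟨1, 1, 2, 2, 0, 0, 1, 0, 1⟩, ⟨1, 1, 2, 2, 0, 0, 1, 0, 1⟩, ⟨0, 2, 0, 1, 2, 1, 0, 1, 1⟩,
  ⟨2, 2, 2, 1, 2, 2, 1, 2, 1⟩, ⟨1, 2, 0, 1, 0, 1, 0, 1, 2⟩, ⟨1, 2, 0, 1, 0, 1, 0, 1, 2⟩, ⟨2, 2, 2, 1, 2, 2, 1, 2, 1⟩,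
  [[0, 0, 0, 0, 2, 1], [0, 0, 2, 1, 1, 2], [0, 2, 2, 1, 0, 2], [0, 1, 1, 2, 2, 0], [1, 2, 0, 1, 1, 0], [1, 2, 2, 0, 0, 0]]⟩

theorem ck21 : dt21.ck (bl true true 1 1 1) = true := by decide +kernel

/-- data -/
def dt22 : Dt := ⟨⟨1, 2, 2, 1, 1, 2, 0, 2, 2⟩, ⟨2, 0, 2, 2, 1, 0, 1, 2, 2⟩, ⟨1, 0, 2, 1, 2, 0, 2, 1, 2⟩, ⟨2, 1, 1, 2, 2, 1, 0, 2, 2⟩,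
  ⟨1, 2, 1, 0, 1, 2, 1, 0, 1⟩, ⟨2, 2, 0, 1, 0, 1, 1, 1, 1⟩, ⟨1, 1, 0, 2, 0, 1, 2, 2, 1⟩, ⟨2, 1, 2, 0, 2, 1, 1, 0, 1⟩,
  [[0, 2, 1, 1, 1, 2], [0, 1, 0, 2, 1, 0], [2, 2, 0, 0, 1, 2], [2, 0, 0, 0, 0, 2], [1, 0, 1, 0, 0, 2], [0, 2, 2, 2, 2, 2]]⟩

theorem ck22 : dt22.ck (bl true true 2 2 1) = true := by decide +kernel

/-- data -/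
def dt23 : Dt := ⟨⟨1, 1, 2, 1, 0, 0, 0, 1, 1⟩, ⟨0, 1, 0, 1, 1, 1, 2, 2, 1⟩, ⟨0, 1, 0, 2, 1, 2, 1, 2, 2⟩, ⟨2, 2, 1, 1, 0, 0, 0, 2, 2⟩,
  ⟨0, 2, 2, 1, 2, 2, 1, 2, 0⟩, ⟨1, 1, 0, 1, 1, 1, 0, 2, 2⟩, ⟨2, 1, 0, 2, 1, 2, 0, 2, 1⟩, ⟨0, 1, 1, 1, 2, 2, 2, 1, 0⟩,
  [[2, 0, 0, 0, 0, 2], [1, 1, 2, 0, 2, 0], [2, 0, 2, 0, 0, 0], [0, 1, 2, 1, 0, 1], [0, 2, 1, 0, 2, 2], [1, 1, 0, 0, 1, 0]]⟩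

theorem ck23 : dt23.ck (bl true true 2 1 2) = true := by decide +kernel

/-- data -/
def dt24 : Dt := ⟨⟨1, 1, 1, 1, 0, 0, 2, 0, 2⟩, ⟨0, 2, 0, 1, 0, 2, 0, 1, 1⟩, ⟨0, 1, 0, 1, 0, 1, 0, 2, 2⟩, ⟨1, 1, 1, 2, 0, 0, 1, 0, 1⟩,
  ⟨2, 2, 0, 2, 0, 1, 0, 1, 0⟩, ⟨2, 0, 1, 0, 0, 2, 2, 2, 1⟩, ⟨2, 0, 2, 0, 0, 1, 2, 1, 2⟩, ⟨2, 2, 0, 1, 0, 2, 0, 2, 0⟩,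
  [[1, 2, 1, 0, 2, 1], [0, 1, 2, 0, 2, 1], [2, 1, 2, 1, 1, 1], [0, 1, 1, 0, 1, 0], [1, 0, 1, 2, 0, 2], [1, 1, 2, 2, 1, 1]]⟩

theorem ck24 : dt24.ck (bl true true 1 2 2) = true := by decide +kernel

end Cfsg.Agent.H267.Pw
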