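import Cfsg.Agent.H267.Pw.SpTabA
import Cfsg.Agent.H267.Pw.SpTabB
import Cfsg.Agent.H267.Pw.SpTabC
import Cfsg.Agent.H934.MF.Blk

/-!
# Pairs of elements of order 13 in `SL_3(3)`: the theorem (helper267; S2465, `F_4(3)`, piece F-E3)

`exists_pair` : `A ∈ SL_3(3)`, `S, T ≠ 0` symmetric: `A = c₁ c₂` with `c₁`, `c₂` of order 13 without fixed points on the symmetric
matrices, `S = X - c₁⁻ᵀ X c₁⁻¹`, `T = c₂⁻¹ Y c₂⁻ᵀ - Y` with `X, Y ≠ 0` symmetric, `X Y ≠ 1`.
-/

set_option autoImplicit false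

namespace Cfsg.Agent.H267.Pw

open Matrix M9

/-- 3 × 3 matrices over the field with three elements -/
abbrev Mat := Matrix (Fin 3) (Fin 3) (ZMod 3)

namespace M9

/-- the matrix -/
def toM (x : M9) : Mat := !![(x.a : ZMod 3), x.b, x.c; x.d, x.e, x.f; x.g, x.h, x.i]

theorem toM_mul (x y : M9) : toM (x.mul y) = toM x * toM y := by
  ext i j
  fin_cases i <;> fin_cases j <;>
    simp [toM, M9.mul, Matrix.mul_apply, Fin.sum_univ_three]

theorem toM_tr (x : M9) : toM x.tr = (toM x)ᵀ := by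
  ext i j
  fin_cases i <;> fin_cases j <;> rfl

theorem two_eq : (2 : ZMod 3) = -1 := by decide

theorem toM_sub (x y : M9) : toM (x.sub y) = toM x - toM y := by
  ext i j
  fin_cases i <;> fin_cases j <;>
    simp [toM, M9.sub, two_eq, sub_eq_add_neg]

theorem toM_one : toM one = 1 := by
  ext i j
  fin_cases i <;> fin_cases j <;> simp [toM, one]

theorem toM_det (x : M9) : ((x.det : ℕ) : ZMod 3) = (toM x).det := by
  rw [M9.det, ZMod.natCast_mod, Matrix.det_fin_three]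
  simp only [toM, Nat.cast_add, Nat.cast_mul, Nat.cast_ofNat, two_eq, Matrix.of_apply, Matrix.cons_val', Matrix.cons_val_zero,
    Matrix.cons_val_one, Matrix.cons_val_fin_one, Matrix.cons_val]
  ring

theorem sq_one {t : ZMod 3} (h : t ≠ 0) : t * t = 1 := by
  revert t; decide

theorem det_lt (x : M9) : x.det < 3 := Nat.mod_lt _ (by norm_num)

theorem det_ne {x : M9} (h : x.det ≠ 0) : (toM x).det ≠ 0 := by
  rw [← toM_det]
  intro h1
  rw [ZMod.natCast_eq_zero_iff] at h1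
  exact h (Nat.eq_zero_of_dvd_of_lt h1 (det_lt x))

theorem det_one' {x : M9} (h : x.det = 1) : (toM x).det = 1 := by
  rw [← toM_det, h, Nat.cast_one]

theorem mul_inv {x : M9} (h : x.det ≠ 0) : toM x * toM x.inv = 1 := by
  have h1 : ((x.det : ℕ) : ZMod 3) * (x.det : ℕ) = 1 := sq_one (by rw [toM_det]; exact det_ne h)
  have h2 : toM x.inv = ((x.det : ℕ) : ZMod 3) • (toM x).adjugate := by
    ext i j
    rw [Matrix.smul_apply, Matrix.adjugate_fin_three]
    fin_cases i <;> fin_cases j <;>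
      simp [toM, M9.inv, two_eq, -mul_eq_mul_left_iff] <;> ring
  rw [h2, Matrix.mul_smul, Matrix.mul_adjugate, ← toM_det, smul_smul, h1, one_smul]

theorem eqb_iff (x y : M9) : x.eqb y = true ↔ toM x = toM y := by
  have key : ∀ a b : ℕ, (a % 3 == b % 3) = true ↔ (a : ZMod 3) = b := by
    intro a b
    rw [beq_iff_eq, ZMod.natCast_eq_natCast_iff']
  constructor
  · intro h
    simp only [M9.eqb, Bool.and_eq_true, key] at h
    obtain ⟨⟨⟨⟨⟨⟨⟨⟨h1, h2⟩, h3⟩, h4⟩, h5⟩, h6⟩, h7⟩, h8⟩, h9⟩ := h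
    rw [toM, toM, h1, h2, h3, h4, h5, h6, h7, h8, h9]
  · intro h
    simp only [M9.eqb, Bool.and_eq_true, key]
    have e : ∀ i j, toM x i j = toM y i j := fun i j => by rw [h]
    exact ⟨⟨⟨⟨⟨⟨⟨⟨e 0 0, e 0 1⟩, e 0 2⟩, e 1 0⟩, e 1 1⟩, e 1 2⟩, e 2 0⟩, e 2 1⟩, e 2 2⟩

theorem toM_fS (k X : M9) : toM (fS k X) = toM X - (toM k)ᵀ * toM X * toM k := by
  rw [fS, toM_sub, toM_mul, toM_mul, toM_tr]

theorem toM_gT (k Y : M9) : toM (gT k Y) = toM k * toM Y * (toM k)ᵀ - toM Y := by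
  rw [gT, toM_sub, toM_mul, toM_mul, toM_tr]

theorem toM_lin_symm (L : List (List ℕ)) (a b c d e f : ℕ) : (toM (lin L a b c d e f))ᵀ = toM (lin L a b c d e f) := by
  ext i j
  fin_cases i <;> fin_cases j <;> rfl

/-- symmetric matrices -/
theorem exists_sy {X : Mat} (h : Xᵀ = X) : ∃ a b c d e f : ℕ, a < 3 ∧ b < 3 ∧ c < 3 ∧ d < 3 ∧ e < 3 ∧ f < 3 ∧
    X = toM (sy a b c d e f) := by
  have hs : ∀ i j, X i j = X j i := fun i j => by
    conv_lhs => rw [← h]
    rfl
  refine ⟨(X 0 0).val, (X 0 1).val, (X 0 2).val, (X 1 1).val, (X 1 2).val, (X 2 2).val, ZMod.val_lt _, ZMod.val_lt _,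
    ZMod.val_lt _, ZMod.val_lt _, ZMod.val_lt _, ZMod.val_lt _, ?_⟩
  ext i j
  fin_cases i <;> fin_cases j <;> simp [toM, sy, hs 1 0, hs 2 0, hs 2 1]

end M9

/-! ### Elements of order 13 -/

/-- elements of order 13 of `SL_3(3)` without fixed points on bilinear forms -/
structure Fpf (c : Mat) : Prop where
  det : c.det = 1
  pow : c ^ 13 = 1
  ne : c ≠ 1
  inj : ∀ X : Mat, cᵀ * X * c = X → X = 0
  inj' : ∀ X : Mat, c * X * cᵀ = X → X = 0

theorem inj_of_poly {c k : Mat} (hkc : k * c = 1) {t s : ZMod 3} (hc : c * c * c = t • (c * c) + s • c + 1)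
    (hd : (k * k * k - t • (k * k) - s • k - 1).det ≠ 0) {X : Mat} (hX : cᵀ * X * c = X) : X = 0 := by
  have hck : c * k = 1 := mul_eq_one_comm.1 hkc
  have h1 : X * c = kᵀ * X := by
    have hk : kᵀ * cᵀ = 1 := by rw [← Matrix.transpose_mul, hck, Matrix.transpose_one]
    calc X * c = (kᵀ * cᵀ) * X * c := by rw [hk, Matrix.one_mul]
      _ = kᵀ * (cᵀ * X * c) := by simp only [Matrix.mul_assoc]
      _ = kᵀ * X := by rw [hX]
  have h2 : X * (c * c) = (kᵀ * kᵀ) * X := by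
    rw [← Matrix.mul_assoc, h1, Matrix.mul_assoc, h1, Matrix.mul_assoc]
  have h3 : X * (c * c * c) = (kᵀ * kᵀ * kᵀ) * X := by
    rw [← Matrix.mul_assoc, h2, Matrix.mul_assoc, h1, Matrix.mul_assoc]
    simp only [Matrix.mul_assoc]
  have h4 : (k * k * k - t • (k * k) - s • k - 1)ᵀ * X = 0 := by
    rw [hc, Matrix.mul_add, Matrix.mul_add, Matrix.mul_smul, Matrix.mul_smul, h1, h2, Matrix.mul_one] at h3
    simp only [Matrix.transpose_sub, Matrix.transpose_mul, Matrix.transpose_smul, Matrix.transpose_one, Matrix.sub_mul,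
      Matrix.smul_mul, Matrix.one_mul]
    rw [show kᵀ * (kᵀ * kᵀ) = kᵀ * kᵀ * kᵀ by rw [Matrix.mul_assoc], ← h3]
    abel
  have h5 : IsUnit (k * k * k - t • (k * k) - s • k - 1)ᵀ.det := by
    rw [Matrix.det_transpose]; exact hd.isUnit
  calc X = ((k * k * k - t • (k * k) - s • k - 1)ᵀ)⁻¹ * ((k * k * k - t • (k * k) - s • k - 1)ᵀ * X) := by
        rw [← Matrix.mul_assoc, Matrix.nonsing_inv_mul _ h5, Matrix.one_mul]
    _ = 0 := by rw [h4, Matrix.mul_zero]

theorem toM_scl (t : ℕ) : toM (scl t) = (t : ZMod 3) • (1 : Mat) := by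
  ext i j
  fin_cases i <;> fin_cases j <;> simp [toM, scl]

theorem mul_scl (x : M9) (t : ℕ) : toM (x.mul (scl t)) = (t : ZMod 3) • toM x := by
  rw [toM_mul, toM_scl, Matrix.mul_smul, Matrix.mul_one]

theorem ckP_spec {c k : M9} {t s : ℕ} (h : ckP c k t s = true) :
    toM c * toM c * toM c = (t : ZMod 3) • (toM c * toM c) + (s : ZMod 3) • toM c + 1 ∧
      (toM k * toM k * toM k - (t : ZMod 3) • (toM k * toM k) - (s : ZMod 3) • toM k - 1).det ≠ 0 := by
  rw [ckP, Bool.and_eq_true, eqb_iff, bne_iff_ne] at h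
  obtain ⟨h1, h2⟩ := h
  constructor
  · rw [toM_sub, toM_sub, mul_scl, mul_scl, toM_mul, toM_mul, toM_scl, sub_eq_iff_eq_add] at h1
    rw [h1]
    have : ((2 : ℕ) : ZMod 3) = -1 := by decide
    rw [this, neg_smul, one_smul, sub_neg_eq_add]
    abel
  · have h3 := det_ne h2
    rw [toM_sub, toM_sub, toM_sub, mul_scl, mul_scl, toM_mul, toM_mul, toM_scl, Nat.cast_one, one_smul] at h3
    exact h3

theorem ok13_spec {c k : M9} (h : ok13 c k = true) : Fpf (toM c) ∧ toM c * toM k = 1 := by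
  rw [ok13] at h
  simp only [Bool.and_eq_true, eqb_iff, beq_iff_eq, Bool.not_eq_true', List.any_eq_true] at h
  obtain ⟨⟨⟨⟨h1, h2⟩, h3⟩, h4⟩, t, -, s, -, h5⟩ := h
  rw [toM_mul, toM_one] at h2
  obtain ⟨h6, h7⟩ := ckP_spec h5
  have h8 : toM k * toM c = 1 := mul_eq_one_comm.1 h2
  refine ⟨⟨det_one' h3, ?_, ?_, ?_, ?_⟩, h2⟩
  · simp only [toM_mul, toM_one] at h1
    rw [← h1]
    noncomm_ring
  · intro h
    have : c.eqb one = true := (eqb_iff _ _).2 (by rw [h, toM_one])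
    rw [this] at h4
    exact Bool.noConfusion h4
  · intro X hX
    exact inj_of_poly h8 h6 h7 hX
  · intro X hX
    refine inj_of_poly (c := (toM c)ᵀ) (k := (toM k)ᵀ) (t := t) (s := s) ?_ ?_ ?_ (by rw [Matrix.transpose_transpose]; exact hX)
    · rw [← Matrix.transpose_mul, h2, Matrix.transpose_one]
    · have := congrArg Matrix.transpose h6
      simp only [Matrix.transpose_add, Matrix.transpose_smul, Matrix.transpose_mul, Matrix.transpose_one] at this
      rw [Matrix.mul_assoc]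
      exact this
    · rw [← Matrix.det_transpose] at h7
      simp only [Matrix.transpose_sub, Matrix.transpose_smul, Matrix.transpose_mul, Matrix.transpose_one] at h7
      rw [Matrix.mul_assoc]
      exact h7

/-! ### The theorem -/

theorem hat_unique {c k : Mat} (hF : Fpf c) (hck : c * k = 1) {X X' : Mat} (h : X - kᵀ * X * k = X' - kᵀ * X' * k) :
    X = X' := by
  have hkc : k * c = 1 := mul_eq_one_comm.1 hck
  have h1 : X - X' = kᵀ * (X - X') * k := by
    rw [Matrix.mul_sub, Matrix.sub_mul]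
    rw [sub_eq_sub_iff_add_eq_add] at h ⊢
    rw [h, add_comm]
  have h2 : cᵀ * (X - X') * c = X - X' := by
    have hck' : cᵀ * kᵀ = 1 := by rw [← Matrix.transpose_mul, hkc, Matrix.transpose_one]
    calc cᵀ * (X - X') * c = cᵀ * (kᵀ * (X - X') * k) * c := by rw [← h1]
      _ = (cᵀ * kᵀ) * (X - X') * (k * c) := by simp only [Matrix.mul_assoc]
      _ = X - X' := by rw [hck', hkc, Matrix.one_mul, Matrix.mul_one]
  exact sub_eq_zero.1 (hF.inj _ h2)

theorem hat_exists {c k : Mat} (hF : Fpf c) (hck : c * k = 1) {S : Mat} (hS : Sᵀ = S) :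
    ∃ X : Mat, Xᵀ = X ∧ S = X - kᵀ * X * k := by
  let f : {X : Mat // Xᵀ = X} → {X : Mat // Xᵀ = X} := fun X => ⟨X.1 - kᵀ * X.1 * k, by
    rw [Matrix.transpose_sub, Matrix.transpose_mul, Matrix.transpose_mul, Matrix.transpose_transpose, X.2, Matrix.mul_assoc]⟩
  have hf : Function.Injective f := by
    intro X X' h
    exact Subtype.ext (hat_unique hF hck (congrArg Subtype.val h))
  obtain ⟨X, hX⟩ := Finite.surjective_of_injective hf ⟨S, hS⟩
  exact ⟨X.1, X.2, (congrArg Subtype.val hX).symm⟩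

theorem Fpf.transpose {c : Mat} (h : Fpf c) : Fpf cᵀ where
  det := by rw [Matrix.det_transpose, h.det]
  pow := by rw [← Matrix.transpose_pow, h.pow, Matrix.transpose_one]
  ne := fun h1 => h.ne (by rw [← Matrix.transpose_transpose c, h1, Matrix.transpose_one])
  inj := fun X hX => h.inj' X (by rwa [Matrix.transpose_transpose] at hX)
  inj' := fun X hX => h.inj X (by rwa [Matrix.transpose_transpose] at hX)

theorem hatT_exists {c k : Mat} (hF : Fpf c) (hck : c * k = 1) {T : Mat} (hT : Tᵀ = T) :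
    ∃ Y : Mat, Yᵀ = Y ∧ T = k * Y * kᵀ - Y := by
  have hkc : k * c = 1 := mul_eq_one_comm.1 hck
  obtain ⟨Y, hY, h⟩ := hat_exists (c := cᵀ) (k := kᵀ) hF.transpose
    (by rw [← Matrix.transpose_mul, hkc, Matrix.transpose_one]) (S := -T) (by rw [Matrix.transpose_neg, hT])
  rw [Matrix.transpose_transpose] at h
  refine ⟨Y, hY, ?_⟩
  rw [← neg_neg T, h]
  abel

theorem Fpf.conj {c P Q : Mat} (hPQ : P * Q = 1) (h : Fpf c) : Fpf (P * c * Q) := by
  have hQP : Q * P = 1 := mul_eq_one_comm.1 hPQ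
  have hT1 : Qᵀ * Pᵀ = 1 := by rw [← Matrix.transpose_mul, hPQ, Matrix.transpose_one]
  have hT2 : Pᵀ * Qᵀ = 1 := by rw [← Matrix.transpose_mul, hQP, Matrix.transpose_one]
  refine ⟨?_, ?_, ?_, ?_, ?_⟩
  · rw [Matrix.det_mul, Matrix.det_mul, h.det, mul_one, ← Matrix.det_mul, hPQ, Matrix.det_one]
  · have h1 : ∀ n : ℕ, (P * c * Q) ^ n = P * c ^ n * Q := by
      intro n
      induction n with
      | zero => rw [pow_zero, pow_zero, Matrix.mul_one, hPQ]
      | succ n ih =>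
        rw [pow_succ, ih, pow_succ]
        calc P * c ^ n * Q * (P * c * Q) = P * c ^ n * (Q * P) * c * Q := by simp only [Matrix.mul_assoc]
          _ = _ := by rw [hQP, Matrix.mul_one]; simp only [Matrix.mul_assoc]
    rw [h1, h.pow, Matrix.mul_one, hPQ]
  · intro h1
    apply h.ne
    calc c = (Q * P) * c * (Q * P) := by rw [hQP, Matrix.one_mul, Matrix.mul_one]
      _ = Q * (P * c * Q) * P := by simp only [Matrix.mul_assoc]
      _ = 1 := by rw [h1, Matrix.mul_one, hQP]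
  · intro X hX
    have h1 : Pᵀ * X * P = 0 := by
      apply h.inj
      rw [Matrix.transpose_mul, Matrix.transpose_mul] at hX
      calc cᵀ * (Pᵀ * X * P) * c = (Pᵀ * Qᵀ) * (cᵀ * (Pᵀ * X * P) * c) * (Q * P) := by
            rw [hT2, hQP, Matrix.one_mul, Matrix.mul_one]
        _ = Pᵀ * (Qᵀ * (cᵀ * Pᵀ) * X * (P * c * Q)) * P := by simp only [Matrix.mul_assoc]
        _ = Pᵀ * X * P := by rw [hX]
    calc X = (Qᵀ * Pᵀ) * X * (P * Q) := by rw [hT1, hPQ, Matrix.one_mul, Matrix.mul_one]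
      _ = Qᵀ * (Pᵀ * X * P) * Q := by simp only [Matrix.mul_assoc]
      _ = 0 := by rw [h1, Matrix.mul_zero, Matrix.zero_mul]
  · intro X hX
    have h1 : Q * X * Qᵀ = 0 := by
      apply h.inj'
      rw [Matrix.transpose_mul, Matrix.transpose_mul] at hX
      calc c * (Q * X * Qᵀ) * cᵀ = (Q * P) * (c * (Q * X * Qᵀ) * cᵀ) * (Pᵀ * Qᵀ) := by
            rw [hT2, hQP, Matrix.one_mul, Matrix.mul_one]
        _ = Q * (P * c * Q * X * (Qᵀ * (cᵀ * Pᵀ))) * Qᵀ := by simp only [Matrix.mul_assoc]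
        _ = Q * X * Qᵀ := by rw [hX]
    calc X = (P * Q) * X * (Qᵀ * Pᵀ) := by rw [hT1, hPQ, Matrix.one_mul, Matrix.mul_one]
      _ = P * (Q * X * Qᵀ) * Pᵀ := by simp only [Matrix.mul_assoc]
      _ = 0 := by rw [h1, Matrix.mul_zero, Matrix.zero_mul]

/-- a good pair for `(A, S, T)` -/
def Good (A S T : Mat) : Prop :=
  ∃ c₁ c₂ X Y : Mat, c₁ * c₂ = A ∧ Fpf c₁ ∧ Fpf c₂ ∧ Xᵀ = X ∧ Yᵀ = Y ∧ X ≠ 0 ∧ Y ≠ 0 ∧ X * Y ≠ 1 ∧
    c₁ᵀ * S * c₁ = c₁ᵀ * X * c₁ - X ∧ c₂ * T * c₂ᵀ = Y - c₂ * Y * c₂ᵀ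

theorem Good.conj {B S T P Q : Mat} (hPQ : P * Q = 1) (h : Good B (Pᵀ * S * P) (Q * T * Qᵀ)) : Good (P * B * Q) S T := by
  have hQP : Q * P = 1 := mul_eq_one_comm.1 hPQ
  have hT1 : Qᵀ * Pᵀ = 1 := by rw [← Matrix.transpose_mul, hPQ, Matrix.transpose_one]
  have hT2 : Pᵀ * Qᵀ = 1 := by rw [← Matrix.transpose_mul, hQP, Matrix.transpose_one]
  obtain ⟨c₁, c₂, X, Y, h1, h2, h3, h4, h5, h6, h7, h8, h9, h10⟩ := h
  refine ⟨P * c₁ * Q, P * c₂ * Q, Qᵀ * X * Q, P * Y * Pᵀ, ?_, h2.conj hPQ, h3.conj hPQ, ?_, ?_, ?_, ?_, ?_, ?_, ?_⟩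
  · calc P * c₁ * Q * (P * c₂ * Q) = P * c₁ * (Q * P) * c₂ * Q := by simp only [Matrix.mul_assoc]
      _ = P * (c₁ * c₂) * Q := by rw [hQP, Matrix.mul_one]; simp only [Matrix.mul_assoc]
      _ = _ := by rw [h1]
  · rw [Matrix.transpose_mul, Matrix.transpose_mul, Matrix.transpose_transpose, h4, Matrix.mul_assoc]
  · rw [Matrix.transpose_mul, Matrix.transpose_mul, Matrix.transpose_transpose, h5, Matrix.mul_assoc]
  · intro h0
    apply h6
    calc X = (Pᵀ * Qᵀ) * X * (Q * P) := by rw [hT2, hQP, Matrix.one_mul, Matrix.mul_one]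
      _ = Pᵀ * (Qᵀ * X * Q) * P := by simp only [Matrix.mul_assoc]
      _ = 0 := by rw [h0, Matrix.mul_zero, Matrix.zero_mul]
  · intro h0
    apply h7
    calc Y = (Q * P) * Y * (Pᵀ * Qᵀ) := by rw [hT2, hQP, Matrix.one_mul, Matrix.mul_one]
      _ = Q * (P * Y * Pᵀ) * Qᵀ := by simp only [Matrix.mul_assoc]
      _ = 0 := by rw [h0, Matrix.mul_zero, Matrix.zero_mul]
  · intro h0
    apply h8
    have h11 : Qᵀ * X * Q * (P * Y * Pᵀ) = Qᵀ * (X * Y) * Pᵀ := by
      calc Qᵀ * X * Q * (P * Y * Pᵀ) = Qᵀ * X * (Q * P) * Y * Pᵀ := by simp only [Matrix.mul_assoc]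
        _ = _ := by rw [hQP, Matrix.mul_one]; simp only [Matrix.mul_assoc]
    rw [h11] at h0
    calc X * Y = (Pᵀ * Qᵀ) * (X * Y) * (Pᵀ * Qᵀ) := by rw [hT2, Matrix.one_mul, Matrix.mul_one]
      _ = Pᵀ * (Qᵀ * (X * Y) * Pᵀ) * Qᵀ := by simp only [Matrix.mul_assoc]
      _ = 1 := by rw [h0, Matrix.mul_one, hT2]
  · rw [Matrix.transpose_mul, Matrix.transpose_mul]
    calc Qᵀ * (c₁ᵀ * Pᵀ) * S * (P * c₁ * Q) = Qᵀ * (c₁ᵀ * (Pᵀ * S * P) * c₁) * Q := by simp only [Matrix.mul_assoc]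
      _ = Qᵀ * (c₁ᵀ * X * c₁ - X) * Q := by rw [h9]
      _ = Qᵀ * (c₁ᵀ * ((Pᵀ * Qᵀ) * X * (Q * P)) * c₁) * Q - Qᵀ * X * Q := by
        rw [hT2, hQP, Matrix.one_mul, Matrix.mul_one, Matrix.mul_sub, Matrix.sub_mul]
      _ = _ := by simp only [Matrix.mul_assoc]
  · rw [Matrix.transpose_mul, Matrix.transpose_mul]
    calc P * c₂ * Q * T * (Qᵀ * (c₂ᵀ * Pᵀ)) = P * (c₂ * (Q * T * Qᵀ) * c₂ᵀ) * Pᵀ := by simp only [Matrix.mul_assoc]
      _ = P * (Y - c₂ * Y * c₂ᵀ) * Pᵀ := by rw [h10]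
      _ = P * Y * Pᵀ - P * (c₂ * ((Q * P) * Y * (Pᵀ * Qᵀ)) * c₂ᵀ) * Pᵀ := by
        rw [hT2, hQP, Matrix.one_mul, Matrix.mul_one, Matrix.mul_sub, Matrix.sub_mul]
      _ = _ := by simp only [Matrix.mul_assoc]

/-- one choice is good unless `X Y = 1` -/
theorem good_of {c₁ c₂ k₁ k₂ S T X Y : Mat} (h1 : Fpf c₁) (h2 : Fpf c₂) (hk1 : c₁ * k₁ = 1) (hk2 : c₂ * k₂ = 1)
    (hX : Xᵀ = X) (hY : Yᵀ = Y) (hS : S = X - k₁ᵀ * X * k₁) (hT : T = k₂ * Y * k₂ᵀ - Y) (hS0 : S ≠ 0) (hT0 : T ≠ 0)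
    (hne : X * Y ≠ 1) : Good (c₁ * c₂) S T := by
  have e1 : k₁ * c₁ = 1 := mul_eq_one_comm.1 hk1
  have e1' : c₁ᵀ * k₁ᵀ = 1 := by rw [← Matrix.transpose_mul, e1, Matrix.transpose_one]
  have e2' : k₂ᵀ * c₂ᵀ = 1 := by rw [← Matrix.transpose_mul, hk2, Matrix.transpose_one]
  refine ⟨c₁, c₂, X, Y, rfl, h1, h2, hX, hY, ?_, ?_, hne, ?_, ?_⟩
  · rintro rfl
    apply hS0
    rw [hS, Matrix.mul_zero, Matrix.zero_mul, sub_zero]
  · rintro rfl
    apply hT0
    rw [hT, Matrix.mul_zero, Matrix.zero_mul, sub_zero]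
  · rw [hS, Matrix.mul_sub, Matrix.sub_mul]
    congr 1
    calc c₁ᵀ * (k₁ᵀ * X * k₁) * c₁ = (c₁ᵀ * k₁ᵀ) * X * (k₁ * c₁) := by simp only [Matrix.mul_assoc]
      _ = X := by rw [e1', e1, Matrix.one_mul, Matrix.mul_one]
  · rw [hT, Matrix.mul_sub, Matrix.sub_mul]
    congr 1
    calc c₂ * (k₂ * Y * k₂ᵀ) * c₂ᵀ = (c₂ * k₂) * Y * (k₂ᵀ * c₂ᵀ) := by simp only [Matrix.mul_assoc]
      _ = Y := by rw [hk2, e2', Matrix.one_mul, Matrix.mul_one]

theorem good_of_dt {x : Dt} {A : M9} (h : x.ck A = true) {S T : Mat} (hS : Sᵀ = S) (hT : Tᵀ = T) (hS0 : S ≠ 0)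
    (hT0 : T ≠ 0) : Good (toM A) S T := by
  rw [Dt.ck] at h
  simp only [Bool.and_eq_true, eqb_iff, toM_mul] at h
  obtain ⟨⟨⟨⟨⟨⟨hA1, hA2⟩, hc1⟩, hc2⟩, hd1⟩, hd2⟩, hck⟩ := h
  obtain ⟨f1, k1⟩ := ok13_spec hc1
  obtain ⟨f2, k2⟩ := ok13_spec hc2
  obtain ⟨g1, l1⟩ := ok13_spec hd1
  obtain ⟨g2, l2⟩ := ok13_spec hd2
  obtain ⟨X, hX, eX⟩ := hat_exists f1 k1 hS
  obtain ⟨Y, hY, eY⟩ := hatT_exists f2 k2 hT
  obtain ⟨X', hX', eX'⟩ := hat_exists g1 l1 hS
  obtain ⟨Y', hY', eY'⟩ := hatT_exists g2 l2 hT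
  by_cases h1 : X * Y = 1
  · by_cases h2 : X' * Y' = 1
    · exfalso
      obtain ⟨a, b, c, d, e, f, ha, hb, hc, hd, he, hf, rfl⟩ := exists_sy hX
      have h3 : ckX x.k₁ x.k₂ x.l₁ x.l₂ x.L a b c d e f = true := by
        have h4 := List.all_eq_true.1 hck a (List.mem_range.2 ha)
        have h5 := List.all_eq_true.1 h4 b (List.mem_range.2 hb)
        have h6 := List.all_eq_true.1 h5 c (List.mem_range.2 hc)
        have h7 := List.all_eq_true.1 h6 d (List.mem_range.2 hd)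
        have h8 := List.all_eq_true.1 h7 e (List.mem_range.2 he)
        exact List.all_eq_true.1 h8 f (List.mem_range.2 hf)
      rw [ckX, Bool.or_eq_true] at h3
      rcases h3 with h3 | h3
      · rw [beq_iff_eq] at h3
        have h4 : (toM (sy a b c d e f)).det = 0 := by rw [← toM_det, h3, Nat.cast_zero]
        have h5 := congrArg Matrix.det h1
        rw [Matrix.det_mul, h4, zero_mul, Matrix.det_one] at h5
        exact zero_ne_one h5
      · simp only [Bool.and_eq_true, eqb_iff, toM_fS, Bool.or_eq_true, beq_iff_eq, Bool.not_eq_true'] at h3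
        obtain ⟨h4, h5⟩ := h3
        have h6 : X' = toM (lin x.L a b c d e f) := by
          apply hat_unique g1 l1
          rw [← eX', ← h4, ← eX]
        have hdet : (sy a b c d e f).det ≠ 0 := by
          intro h0
          have h7 : (toM (sy a b c d e f)).det = 0 := by rw [← toM_det, h0, Nat.cast_zero]
          have h8 := congrArg Matrix.det h1
          rw [Matrix.det_mul, h7, zero_mul, Matrix.det_one] at h8
          exact zero_ne_one h8
        rcases h5 with h5 | h5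
        · have h7 : X'.det = 0 := by rw [h6, ← toM_det, h5, Nat.cast_zero]
          have h8 := congrArg Matrix.det h2
          rw [Matrix.det_mul, h7, zero_mul, Matrix.det_one] at h8
          exact zero_ne_one h8
        · have hdet' : (lin x.L a b c d e f).det ≠ 0 := by
            intro h0
            have h7 : X'.det = 0 := by rw [h6, ← toM_det, h0, Nat.cast_zero]
            have h8 := congrArg Matrix.det h2
            rw [Matrix.det_mul, h7, zero_mul, Matrix.det_one] at h8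
            exact zero_ne_one h8
          have e1 : Y = toM (sy a b c d e f).inv := by
            have h9 := mul_inv hdet
            have h10 : Y * toM (sy a b c d e f) = 1 := mul_eq_one_comm.1 h1
            calc Y = Y * (toM (sy a b c d e f) * toM (sy a b c d e f).inv) := by rw [h9, Matrix.mul_one]
              _ = _ := by rw [← Matrix.mul_assoc, h10, Matrix.one_mul]
          have e2 : Y' = toM (lin x.L a b c d e f).inv := by
            have h9 := mul_inv hdet'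
            rw [h6] at h2
            have h10 : Y' * toM (lin x.L a b c d e f) = 1 := mul_eq_one_comm.1 h2
            calc Y' = Y' * (toM (lin x.L a b c d e f) * toM (lin x.L a b c d e f).inv) := by rw [h9, Matrix.mul_one]
              _ = _ := by rw [← Matrix.mul_assoc, h10, Matrix.one_mul]
          have h11 : (gT x.k₂ (sy a b c d e f).inv).eqb (gT x.l₂ (lin x.L a b c d e f).inv) = true := by
            rw [eqb_iff, toM_gT, toM_gT, ← e1, ← e2, ← eY, ← eY']
          rw [h11] at h5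
          exact Bool.noConfusion h5
    · rw [← hA2]
      exact good_of g1 g2 l1 l2 hX' hY' eX' eY' hS0 hT0 h2
  · rw [← hA1]
    exact good_of f1 f2 k1 k2 hX hY eX eY hS0 hT0 h1

/-- the table: every block companion matrix of determinant 1 has data -/
theorem exists_dt (b0 b1 : Bool) (c0 c1 c2 : ℕ) (h0 : c0 < 3) (h1 : c1 < 3) (h2 : c2 < 3) (hd : (bl b0 b1 c0 c1 c2).det = 1) :
    ∃ x : Dt, x.ck (bl b0 b1 c0 c1 c2) = true := by
  cases b0 <;> cases b1 <;> interval_cases c0 <;> interval_cases c1 <;> interval_cases c2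
  · exact absurd hd (by decide)
  · exact absurd hd (by decide)
  · exact absurd hd (by decide)
  · exact absurd hd (by decide)
  · exact absurd hd (by decide)
  · exact absurd hd (by decide)
  · exact absurd hd (by decide)
  · exact absurd hd (by decide)
  · exact absurd hd (by decide)
  · exact ⟨dt0, ck0⟩
  · exact ⟨dt3, ck3⟩
  · exact ⟨dt6, ck6⟩
  · exact ⟨dt1, ck1⟩
  · exact ⟨dt4, ck4⟩
  · exact ⟨dt7, ck7⟩
  · exact ⟨dt2, ck2⟩
  · exact ⟨dt5, ck5⟩
  · exact ⟨dt8, ck8⟩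
  · exact absurd hd (by decide)
  · exact absurd hd (by decide)
  · exact absurd hd (by decide)
  · exact absurd hd (by decide)
  · exact absurd hd (by decide)
  · exact absurd hd (by decide)
  · exact absurd hd (by decide)
  · exact absurd hd (by decide)
  · exact absurd hd (by decide)
  · exact absurd hd (by decide)
  · exact absurd hd (by decide)
  · exact absurd hd (by decide)
  · exact absurd hd (by decide)
  · exact absurd hd (by decide)
  · exact absurd hd (by decide)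
  · exact absurd hd (by decide)
  · exact absurd hd (by decide)
  · exact absurd hd (by decide)
  · exact absurd hd (by decide)
  · exact absurd hd (by decide)
  · exact ⟨dt12, ck12⟩
  · exact absurd hd (by decide)
  · exact absurd hd (by decide)
  · exact ⟨dt13, ck13⟩
  · exact absurd hd (by decide)
  · exact absurd hd (by decide)
  · exact ⟨dt14, ck14⟩
  · exact absurd hd (by decide)
  · exact ⟨dt9, ck9⟩
  · exact absurd hd (by decide)
  · exact absurd hd (by decide)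
  · exact ⟨dt10, ck10⟩
  · exact absurd hd (by decide)
  · exact absurd hd (by decide)
  · exact ⟨dt11, ck11⟩
  · exact absurd hd (by decide)
  · exact absurd hd (by decide)
  · exact absurd hd (by decide)
  · exact absurd hd (by decide)
  · exact absurd hd (by decide)
  · exact absurd hd (by decide)
  · exact absurd hd (by decide)
  · exact absurd hd (by decide)
  · exact absurd hd (by decide)
  · exact absurd hd (by decide)
  · exact absurd hd (by decide)
  · exact absurd hd (by decide)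
  · exact absurd hd (by decide)
  · exact absurd hd (by decide)
  · exact absurd hd (by decide)
  · exact absurd hd (by decide)
  · exact ⟨dt16, ck16⟩
  · exact ⟨dt18, ck18⟩
  · exact ⟨dt20, ck20⟩
  · exact absurd hd (by decide)
  · exact absurd hd (by decide)
  · exact absurd hd (by decide)
  · exact ⟨dt15, ck15⟩
  · exact ⟨dt17, ck17⟩
  · exact ⟨dt19, ck19⟩
  · exact absurd hd (by decide)
  · exact absurd hd (by decide)
  · exact absurd hd (by decide)
  · exact absurd hd (by decide)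
  · exact absurd hd (by decide)
  · exact absurd hd (by decide)
  · exact absurd hd (by decide)
  · exact absurd hd (by decide)
  · exact absurd hd (by decide)
  · exact absurd hd (by decide)
  · exact absurd hd (by decide)
  · exact absurd hd (by decide)
  · exact absurd hd (by decide)
  · exact absurd hd (by decide)
  · exact absurd hd (by decide)
  · exact absurd hd (by decide)
  · exact ⟨dt21, ck21⟩
  · exact absurd hd (by decide)
  · exact absurd hd (by decide)
  · exact absurd hd (by decide)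
  · exact ⟨dt24, ck24⟩
  · exact absurd hd (by decide)
  · exact absurd hd (by decide)
  · exact absurd hd (by decide)
  · exact absurd hd (by decide)
  · exact absurd hd (by decide)
  · exact ⟨dt23, ck23⟩
  · exact absurd hd (by decide)
  · exact ⟨dt22, ck22⟩
  · exact absurd hd (by decide)

/-- the block companion matrices -/
theorem blk_eq {b : Fin 3 → Bool} (hb : b 2 = true) (c : Fin 3 → ZMod 3) :
    H934.MF.blk b c = toM (bl (b 0) (b 1) (c 0).val (c 1).val (c 2).val) := by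
  have hb' : ∀ j : Fin 3, b j = ![b 0, b 1, true] j := by
    intro j
    fin_cases j <;> simp [hb]
  ext i j
  rw [H934.MF.blk, Matrix.of_apply]
  cases h0 : b 0 <;> cases h1 : b 1 <;> fin_cases i <;> fin_cases j <;>
    simp [hb, h0, h1, toM, bl, Fin.forall_fin_succ]

/-- **Pairs of elements of order 13.** -/
theorem exists_pair {A S T : Mat} (hA : A.det = 1) (hS : Sᵀ = S) (hT : Tᵀ = T) (hS0 : S ≠ 0) (hT0 : T ≠ 0) :
    Good A S T := by
  obtain ⟨b, c, P, hb, hP, hAP⟩ := H934.MF.exists_blk (n := 3) (by norm_num) A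
  have hu : IsUnit P.det := hP.isUnit
  have hPQ : P * P⁻¹ = 1 := Matrix.mul_nonsing_inv _ hu
  have hQP : P⁻¹ * P = 1 := Matrix.nonsing_inv_mul _ hu
  have hT1 : (P⁻¹)ᵀ * Pᵀ = 1 := by rw [← Matrix.transpose_mul, hPQ, Matrix.transpose_one]
  have hT2 : Pᵀ * (P⁻¹)ᵀ = 1 := by rw [← Matrix.transpose_mul, hQP, Matrix.transpose_one]
  have hA' : A = P * H934.MF.blk b c * P⁻¹ := by
    rw [← hAP, Matrix.mul_assoc, hPQ, Matrix.mul_one]
  have hdet : (H934.MF.blk b c).det = 1 := by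
    have h1 := congrArg Matrix.det hAP
    rw [Matrix.det_mul, Matrix.det_mul, hA, one_mul] at h1
    exact (mul_right_injective₀ hP (by simpa using h1)).symm
  rw [blk_eq hb] at hA' hdet
  obtain ⟨x, hx⟩ := exists_dt (b 0) (b 1) (c 0).val (c 1).val (c 2).val (ZMod.val_lt _) (ZMod.val_lt _) (ZMod.val_lt _) (by
    rw [← toM_det] at hdet
    have h1 := det_lt (bl (b 0) (b 1) (c 0).val (c 1).val (c 2).val)
    generalize (bl (b 0) (b 1) (c 0).val (c 1).val (c 2).val).det = t at hdet h1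
    interval_cases t
    · exact absurd hdet (by decide)
    · rfl
    · exact absurd hdet (by decide))
  rw [hA']
  refine Good.conj hPQ (good_of_dt hx ?_ ?_ ?_ ?_)
  · rw [Matrix.transpose_mul, Matrix.transpose_mul, Matrix.transpose_transpose, hS, Matrix.mul_assoc]
  · rw [Matrix.transpose_mul, Matrix.transpose_mul, Matrix.transpose_transpose, hT, Matrix.mul_assoc]
  · intro h0
    apply hS0
    calc S = ((P⁻¹)ᵀ * Pᵀ) * S * (P * P⁻¹) := by rw [hT1, hPQ, Matrix.one_mul, Matrix.mul_one]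
      _ = (P⁻¹)ᵀ * (Pᵀ * S * P) * P⁻¹ := by simp only [Matrix.mul_assoc]
      _ = 0 := by rw [h0, Matrix.mul_zero, Matrix.zero_mul]
  · intro h0
    apply hT0
    calc T = (P * P⁻¹) * T * ((P⁻¹)ᵀ * Pᵀ) := by rw [hT1, hPQ, Matrix.one_mul, Matrix.mul_one]
      _ = P * (P⁻¹ * T * (P⁻¹)ᵀ) * Pᵀ := by simp only [Matrix.mul_assoc]
      _ = 0 := by rw [h0, Matrix.mul_zero, Matrix.zero_mul]

end Cfsg.Agent.H267.Pw
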